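import Groth.Agent.Lib.SmoothLift.Lift
import Groth.Agent.Lib.Kaehler.FSmooth

/-!
# Formally smooth morphisms of schemes and of sheaves
-/

universe u

open CategoryTheory CategoryTheory.Limits AlgebraicGeometry Opposite AlgSp
open Groth.Agent.Lib.AlgSpFormal Groth.Agent.H54

namespace Groth.Agent.Lib.SmoothLift.Formal

section Schemes

variable {X Y X' Y' : Scheme.{u}}

theorem baseChange {f : X ⟶ Y} {g : Y' ⟶ Y} {g' : X' ⟶ X} {f' : X' ⟶ Y'}
    (hsq : IsPullback g' f' f g) (hf : MoreMor.IsFormallySmoothHom f) :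
    MoreMor.IsFormallySmoothHom f' := by
  intro A _ I hI a b w
  obtain ⟨l, hl₁, hl₂⟩ := hf A I hI (a ≫ g') (b ≫ g)
    (by rw [Category.assoc, hsq.w, reassoc_of% w])
  exact ⟨hsq.lift l b hl₂, hsq.hom_ext (by simpa using hl₁) (by simpa using w), by simp⟩

/-- The map on global functions of a formally smooth morphism of affine schemes. -/
theorem formallySmooth_appTop {f : X ⟶ Y} [IsAffine X] [IsAffine Y]
    (hf : MoreMor.IsFormallySmoothHom f) : f.appTop.hom.FormallySmooth := by
  have h := Kaehler.FSmooth.formallySmooth_appLE hf (isAffineOpen_top Y) (isAffineOpen_top X)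
    (le_of_eq (Scheme.Hom.preimage_top _).symm)
  rw [Scheme.Hom.appTop, Scheme.Hom.app_eq_appLE]
  exact h

/-- Etale morphisms are formally smooth. -/
theorem isFormallySmoothHom_of_etale (f : X ⟶ Y) [Etale f] : MoreMor.IsFormallySmoothHom f :=
  fun A _ I hI a b w => (Yon.isFormallyEtaleHom_of_etale f A I hI a b w).exists

end Schemes

variable {S : Scheme.{u}}

/-- The atlas condition for a formally smooth morphism of schemes. -/
theorem atlasFS_of_isFormallySmoothHom {T' U₁ : Over S} [IsAffine T'.left] (u₁ : U₁ ⟶ T')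
    (h : MoreMor.IsFormallySmoothHom u₁.left) : Lift.AtlasFS u₁ := by
  intro x
  obtain ⟨_, ⟨O, hO, rfl⟩, hx, -⟩ := U₁.left.isBasis_affineOpens.exists_subset_of_mem_open
    (Set.mem_univ x) isOpen_univ
  have : IsAffine (O : Scheme.{u}) := hO
  exact ⟨O, hO, hx, formallySmooth_appTop (FormalEtale.comp_smooth _ _
    (isFormallySmoothHom_of_etale (Scheme.Opens.ι O)) h)⟩

/-- A lifting square has a dotted arrow as soon as the fibre product is a formally smooth
algebraic space over the base of the square. -/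
theorem hasLift {F G : Sp S} {f : F ⟶ G} (sq : InfSq f) {W : Sp S} (hW : IsAlgSpace W)
    {pr : W ⟶ F} {q : W ⟶ (yon S).obj sq.ptT'} (sqW : IsPullback pr q f sq.bot) {U₁ : Over S}
    {p₁ : (yon S).obj U₁ ⟶ W} (hp₁ : RepWith @Etale p₁) (hp₁s : RepWith @Surjective p₁)
    {u₁ : U₁ ⟶ sq.ptT'} (hu₁ : (yon S).map u₁ = p₁ ≫ q) (hsm : Lift.AtlasFS u₁) :
    sq.HasLift := by
  have := Yon.isClosedImmersion_j sq
  have := Yon.isAffine_ptT' sq
  have : Surjective sq.j.left := FormalEtale.surjective_specMap_mk _ _ sq.sq_zero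
  obtain ⟨l, hl₁, hl₂⟩ := Lift.exists_section sq.j (Yon.ker_j_sq sq) hW hp₁ hp₁s hu₁ hsm
    (sqW.lift sq.top ((yon S).map sq.j) sq.comm) (sqW.lift_snd _ _ _)
  exact ⟨l ≫ pr, by rw [← Category.assoc, hl₂, sqW.lift_fst],
    by rw [Category.assoc, sqW.w, reassoc_of% hl₁]⟩

/-- Representable morphisms with formally smooth fibres over affine schemes are formally smooth. -/
theorem isFormallySmoothMor_of_rep {F G : Sp S} {f : F ⟶ G} (hf : Representable f)
    (h : ∀ ⦃U : Over S⦄ (b : (yon S).obj U ⟶ G), IsAffine U.left → Lift.AtlasFS (hf.snd b)) :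
    IsFormallySmoothMor f := by
  intro sq
  have : MorphismProperty.ContainsIdentities (@Etale : MorphismProperty Scheme.{u}) :=
    ⟨fun X => inferInstanceAs (Etale (𝟙 X))⟩
  exact hasLift sq (IsAlgSpace.yon_obj _) (hf.isPullback sq.bot)
    (repWith_id @Etale _) (repWith_id @Surjective _) (Category.id_comp _).symm
    (h sq.bot (Yon.isAffine_ptT' sq))

/-- Representable smooth morphisms are formally smooth. -/
theorem isFormallySmoothMor_of_smooth {F G : Sp S} {f : F ⟶ G} (hf : RepWith @Smooth f) :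
    IsFormallySmoothMor f := by
  refine isFormallySmoothMor_of_rep hf.1 fun U b hU x => ?_
  have : Smooth (hf.1.snd b).left := hf.2 b _ _ (hf.1.isPullback b)
  obtain ⟨_, ⟨O, hO, rfl⟩, hx, -⟩ := (hf.1.pullback b).left.isBasis_affineOpens.exists_subset_of_mem_open
    (Set.mem_univ x) isOpen_univ
  have : IsAffine (O : Scheme.{u}) := hO
  refine ⟨O, hO, hx, ?_⟩
  exact (HasRingHomProperty.iff_of_isAffine (P := @Smooth)).1
    (inferInstanceAs (Smooth (Scheme.Opens.ι O ≫ (hf.1.snd b).left))) |>.formallySmooth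

/-- For schemes the two notions of formally smooth agree. -/
theorem isFormallySmoothMor_yon_map_iff {U V : Over S} (g : U ⟶ V) :
    IsFormallySmoothMor ((yon S).map g) ↔ MoreMor.IsFormallySmoothHom g.left := by
  constructor
  · intro h A _ I hI a b w
    let T' : Over S := Over.mk (b ≫ V.hom)
    let T : Over S := Over.mk (Spec.map (CommRingCat.ofHom (Ideal.Quotient.mk I)) ≫ b ≫ V.hom)
    let aT : T ⟶ U := Over.homMk a (by
      change a ≫ U.hom = _ ≫ b ≫ V.hom
      rw [← Over.w g, ← Category.assoc, ← w, Category.assoc])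
    let bT : T' ⟶ V := Over.homMk b rfl
    have hw : aT ≫ g =
        (Over.homMk (Spec.map (CommRingCat.ofHom (Ideal.Quotient.mk I))) rfl : T ⟶ T') ≫ bT := by
      ext : 1; exact w.symm
    obtain ⟨l, hl₁, hl₂⟩ := h ⟨A, I, hI, b ≫ V.hom, (yon S).map aT, (yon S).map bT,
      by rw [← Functor.map_comp, ← Functor.map_comp, hw]⟩
    obtain ⟨l, rfl⟩ := (yon S).map_surjective l
    have hl₁' : (Over.homMk (Spec.map (CommRingCat.ofHom (Ideal.Quotient.mk I))) rfl : T ⟶ T') ≫ l
        = aT := (yon S).map_injective (((yon S).map_comp _ _).trans hl₁)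
    have hl₂' : l ≫ g = bT := (yon S).map_injective (((yon S).map_comp _ _).trans hl₂)
    exact ⟨l.left, congrArg (fun x : T ⟶ U => x.left) hl₁',
      congrArg (fun x : T' ⟶ V => x.left) hl₂'⟩
  · intro h
    have hr := AlgSp.representable_yon_map g
    refine isFormallySmoothMor_of_rep hr fun W b hW => atlasFS_of_isFormallySmoothHom _ ?_
    obtain ⟨b', rfl⟩ := (yon S).map_surjective b
    have sq := hr.isPullback ((yon S).map b')
    obtain ⟨p, hp⟩ := (yon S).map_surjective (hr.fst ((yon S).map b'))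
    rw [← hp] at sq
    exact baseChange ((Groth.Agent.Lib.AlgSpace.isPullback_of_yon_map sq).map (Over.forget S)) h

/-- Smooth morphisms of schemes are formally smooth. -/
theorem isFormallySmoothHom_of_smooth {X Y : Scheme.{u}} (f : X ⟶ Y) [Smooth f] :
    MoreMor.IsFormallySmoothHom f := by
  let g : Over.mk f ⟶ Over.mk (𝟙 Y) := Over.homMk f
  exact (isFormallySmoothMor_yon_map_iff g).1
    (isFormallySmoothMor_of_smooth ((AlgSp.repWith_yon_map_iff @Smooth g).2 ‹_›))

/-- Formal smoothness can be checked on affine opens. -/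
theorem isFormallySmoothHom_of_affineLocally {X Y : Scheme.{u}} (f : X ⟶ Y)
    (h : ∀ (U : X.Opens) (V : Y.Opens), IsAffineOpen U → IsAffineOpen V → ∀ e : U ≤ f ⁻¹ᵁ V,
      (f.appLE V U e).hom.FormallySmooth) : MoreMor.IsFormallySmoothHom f := by
  let g : Over.mk f ⟶ Over.mk (𝟙 Y) := Over.homMk f
  refine (isFormallySmoothMor_yon_map_iff g).1
    (isFormallySmoothMor_of_rep (AlgSp.representable_yon_map g) fun T b hT => ?_)
  have hr := AlgSp.representable_yon_map g
  obtain ⟨b', rfl⟩ := (yon Y).map_surjective b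
  have sqy := hr.isPullback ((yon Y).map b')
  obtain ⟨p, hp⟩ := (yon Y).map_surjective (hr.fst ((yon Y).map b'))
  rw [← hp] at sqy
  let q := (hr.snd ((yon Y).map b')).left
  let P := (hr.pullback ((yon Y).map b')).left
  have sq : IsPullback p.left q f b'.left :=
    (Groth.Agent.Lib.AlgSpace.isPullback_of_yon_map sqy).map (Over.forget Y)
  intro x
  obtain ⟨_, ⟨V, hV, rfl⟩, hxV, -⟩ := Y.isBasis_affineOpens.exists_subset_of_mem_open
    (Set.mem_univ (f (p.left x))) isOpen_univ
  obtain ⟨_, ⟨U, hU, rfl⟩, hxU, hUV⟩ := X.isBasis_affineOpens.exists_subset_of_mem_open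
    (show p.left x ∈ f ⁻¹ᵁ V from hxV) (f ⁻¹ᵁ V).isOpen
  have hxq : b'.left (q x) = f (p.left x) := by
    rw [← Scheme.Hom.comp_apply, ← Scheme.Hom.comp_apply, sq.w]
  obtain ⟨_, ⟨V', hV', rfl⟩, hxV', hV'V⟩ := T.left.isBasis_affineOpens.exists_subset_of_mem_open
    (show q x ∈ b'.left ⁻¹ᵁ V by
      change b'.left (q x) ∈ V
      rw [hxq]; exact hxV) (b'.left ⁻¹ᵁ V).isOpen
  let O : (hr.pullback ((yon Y).map b')).left.Opens := p.left ⁻¹ᵁ U ⊓ q ⁻¹ᵁ V'
  have sqO := Scheme.Hom.isPullback_resLE sq (US := V) (UT := V') (UX := U) hV'V hUV (UY := O) rfl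
  have : IsAffine (V : Scheme.{u}) := hV
  have : IsAffine (U : Scheme.{u}) := hU
  have : IsAffine (V' : Scheme.{u}) := hV'
  have : IsAffine (O : Scheme.{u}) := .of_isIso sqO.isoPullback.hom
  refine ⟨O, this, ⟨hxU, hxV'⟩, ?_⟩
  have hfs : (f.resLE V U hUV).appTop.hom.FormallySmooth :=
    (RingHom.FormallySmooth.respectsIso.arrow_mk_iso_iff (arrowResLEAppIso f V U hUV)).2
      (h U V hU hV hUV)
  have : (RingHom.toMorphismProperty RingHom.FormallySmooth).IsStableUnderCobaseChange :=
    RingHom.isStableUnderCobaseChange_toMorphismProperty_iff.2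
      RingHom.FormallySmooth.isStableUnderBaseChange
  have hO : (q.resLE V' O inf_le_right).appTop.hom.FormallySmooth :=
    MorphismProperty.of_isPushout (P := RingHom.toMorphismProperty RingHom.FormallySmooth)
      (isPushout_appTop_of_isPullback sqO).flip hfs
  change (O.ι ≫ q).appTop.hom.FormallySmooth
  rw [← Scheme.Hom.resLE_comp_ι q (inf_le_right : O ≤ q ⁻¹ᵁ V'), Scheme.Hom.comp_appTop,
    CommRingCat.hom_comp]
  exact (formallySmooth_appTop (isFormallySmoothHom_of_etale (Scheme.Opens.ι V'))).comp hO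

end Groth.Agent.Lib.SmoothLift.Formal
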