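import Groth.Agent.Lib.SmoothLift.Formal
import Groth.Agent.Lib.AlgSpFormal.Charts

/-!
# Formally smooth morphisms of algebraic spaces through etale charts
-/

universe u

open CategoryTheory CategoryTheory.Limits AlgebraicGeometry Opposite AlgSp
open Groth.Agent.Lib.AlgSpFormal Groth.Agent.H54

namespace Groth.Agent.Lib.SmoothLift.Space

variable {S : Scheme.{u}} {X Y : Sp S} {f : X ⟶ Y} {U V : Over S} {a : (yon S).obj U ⟶ X}
  {b : (yon S).obj V ⟶ Y} {h : U ⟶ V}

theorem formallySmooth_chart (ha : RepWith @Etale a) (hb : RepWith @Etale b)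
    (w : a ≫ f = (yon S).map h ≫ b) (hf : IsFormallySmoothMor f) :
    MoreMor.IsFormallySmoothHom h.left := by
  have h' := Descend.formallySmooth_comp
    (Yon.formallySmooth_of_formallyEtale (Yon.isFormallyEtaleMor_of_etale ha)) hf
  rw [w] at h'
  exact (Formal.isFormallySmoothMor_yon_map_iff h).1 ((Groth.Agent.S10618.result _ b
    (Yon.formallyUnramified_of_formallyEtale (Yon.isFormallyEtaleMor_of_etale hb))).2.2 h')

/-- One formally smooth chart with surjective source suffices. -/
theorem formallySmooth_of_chart (hX : IsAlgSpace X) (hY : IsAlgSpace Y)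
    (ha : RepWith @Etale a) (has : RepWith @Surjective a) (hb : RepWith @Etale b)
    (w : a ≫ f = (yon S).map h ≫ b) (hh : MoreMor.IsFormallySmoothHom h.left) :
    IsFormallySmoothMor f := by
  intro sq
  obtain ⟨T, t₁, t₂, sqT⟩ := AlgSpace.exists_isPullback_yon hY.diag b sq.bot
  have sqQ := IsPullback.of_hasPullback h t₁
  have sqUW : IsPullback ((yon S).map (pullback.fst h t₁)) ((yon S).map (pullback.snd h t₁ ≫ t₂))
      (a ≫ f) sq.bot := by
    rw [w, Functor.map_comp]
    exact (AlgSpace.isPullback_yon sqQ).paste_vert sqT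
  have sqW := IsPullback.of_hasPullback f sq.bot
  let a' : (yon S).obj (pullback h t₁) ⟶ pullback f sq.bot :=
    sqW.lift ((yon S).map (pullback.fst h t₁) ≫ a) ((yon S).map (pullback.snd h t₁ ≫ t₂))
      (by rw [Category.assoc]; exact sqUW.w)
  have sqa : IsPullback ((yon S).map (pullback.fst h t₁)) a' a (pullback.fst f sq.bot) := by
    refine IsPullback.of_bot (v₂₁ := pullback.snd _ _) (v₂₂ := f) ?_ ?_ sqW
    · rw [sqW.lift_snd]
      exact sqUW
    · exact (sqW.lift_fst _ _ _).symm
  have : Etale t₂.left := AlgSpace.repWith_property hb sqT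
  refine Formal.hasLift sq (AlgSpace.isAlgSpace_of_isPullback sqW hY.diag hX (IsAlgSpace.yon_obj _))
    sqW (AlgSpace.repWith_baseChange sqa ha) (AlgSpace.repWith_baseChange sqa has)
    (sqW.lift_snd _ _ _).symm ?_
  have := Yon.isAffine_ptT' sq
  refine Formal.atlasFS_of_isFormallySmoothHom _ ?_
  rw [Over.comp_left]
  exact FormalEtale.comp_smooth _ _ (Formal.baseChange (sqQ.map (Over.forget S)) hh)
    (Formal.isFormallySmoothHom_of_etale t₂.left)

theorem formallySmooth_iff (hX : IsAlgSpace X) (hY : IsAlgSpace Y) (f : X ⟶ Y) :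
    IsFormallySmoothMor f ↔ LocP @MoreMor.IsFormallySmoothHom f := by
  refine ⟨fun hf U V a b h ha hb w => formallySmooth_chart ha hb w hf, fun hl => ?_⟩
  obtain ⟨U, V, a, b, h, ha, has, hb, -, w⟩ := AlgSpMor.LocP.exists_chart hX hY f
  exact formallySmooth_of_chart hX hY ha has hb w (hl a b h ha hb w)

end Groth.Agent.Lib.SmoothLift.Space
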