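import Groth.Agent.Lib.Henselian.Smooth
import Groth.Agent.Lib.Henselian.Basic
import Mathlib.AlgebraicGeometry.Morphisms.Etale
import Mathlib.AlgebraicGeometry.Morphisms.Smooth
import Mathlib.AlgebraicGeometry.Pullbacks
import Mathlib.RingTheory.Etale.StandardEtale
import Mathlib.RingTheory.Unramified.LocalStructure
import Mathlib.Algebra.Polynomial.Lifts

/-!
# Lifting etale neighbourhoods and maps to smooth schemes along locally nilpotent ideals
-/

universe u

open CategoryTheory CategoryTheory.Limits AlgebraicGeometry Polynomial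

namespace Groth.Agent.Lib.SmoothLift.NilLift

/-- Base change of a quotient is a quotient. -/
theorem isPushout_quotient {A B : CommRingCat.{u}} (φ : A ⟶ B) (I : Ideal A) :
    IsPushout (CommRingCat.ofHom (Ideal.Quotient.mk I)) φ
      (CommRingCat.ofHom (Ideal.quotientMap (I.map φ.hom) φ.hom Ideal.le_comap_map))
      (CommRingCat.ofHom (Ideal.Quotient.mk (I.map φ.hom))) := by
  refine ⟨⟨by ext; rfl⟩, ⟨PushoutCocone.IsColimit.mk _
    (fun s => CommRingCat.ofHom (Ideal.Quotient.lift (I.map φ.hom) s.inr.hom ?_)) ?_ ?_ ?_⟩⟩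
  · intro x hx
    refine RingHom.mem_ker.1 (Ideal.map_le_iff_le_comap.2 (show I ≤ (RingHom.ker s.inr.hom).comap φ.hom from ?_) hx)
    intro a ha
    rw [Ideal.mem_comap, RingHom.mem_ker,
      ← CommRingCat.comp_apply, ← s.condition, CommRingCat.comp_apply]
    simp [Ideal.Quotient.eq_zero_iff_mem.2 ha]
  · intro s
    ext a
    exact (congrArg (fun m => m.hom a) s.condition).symm
  · intro s
    ext b
    rfl
  · intro s m _ h₂
    ext b
    exact congrArg (fun k => k.hom b) h₂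

/-- The square of spectra attached to the base change of a quotient. -/
theorem isPullback_quotient {A B : CommRingCat.{u}} (φ : A ⟶ B) (I : Ideal A) :
    IsPullback (Spec.map (CommRingCat.ofHom (Ideal.quotientMap (I.map φ.hom) φ.hom Ideal.le_comap_map)))
      (Spec.map (CommRingCat.ofHom (Ideal.Quotient.mk (I.map φ.hom))))
      (Spec.map (CommRingCat.ofHom (Ideal.Quotient.mk I))) (Spec.map φ) :=
  isPullback_SpecMap_of_isPushout _ _ _ _ (isPushout_quotient φ I)

/-- Standard etale algebras over a quotient lift. -/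
theorem exists_retract {A : Type u} [CommRing A] (I : Ideal A) (C : Type u) [CommRing C]
    [Algebra (A ⧸ I) C] [Algebra.IsStandardEtale (A ⧸ I) C] :
    ∃ (B : Type u) (_ : CommRing B) (_ : Algebra A B) (_ : Algebra.Etale A B)
      (φ : C →+* B ⧸ I.map (algebraMap A B)) (ψ : B ⧸ I.map (algebraMap A B) →+* C),
      φ.comp (algebraMap (A ⧸ I) C) =
        Ideal.quotientMap (I.map (algebraMap A B)) (algebraMap A B) Ideal.le_comap_map ∧
      ψ.comp φ = RingHom.id C := by
  obtain ⟨Q⟩ :=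
    Algebra.IsStandardEtale.nonempty_standardEtalePresentation (R := A ⧸ I) (S := C)
  have hs : Function.Surjective (Polynomial.map (Ideal.Quotient.mk I)) :=
    Polynomial.map_surjective _ Ideal.Quotient.mk_surjective
  obtain ⟨F, hF₁, -, hF⟩ := Polynomial.lifts_and_natDegree_eq_and_monic
    ((Polynomial.mem_lifts _).2 (hs Q.P.f)) Q.P.monic_f
  obtain ⟨G, hG⟩ := hs Q.P.g
  let P' : StandardEtalePair A := ⟨F, hF, derivative F * G, G, 0, 1, by ring⟩
  letI : Algebra A C := Algebra.compHom C (Ideal.Quotient.mk I)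
  have : IsScalarTower A (A ⧸ I) C := IsScalarTower.of_algebraMap_eq fun _ => rfl
  have e₁ : ∀ (R : Type u) [CommRing R] [Algebra (A ⧸ I) R] [Algebra A R]
      [IsScalarTower A (A ⧸ I) R] (x : R) (p : A[X]),
      aeval x (p.map (Ideal.Quotient.mk I)) = aeval x p := fun R _ _ _ _ x p => by
    rw [← Ideal.Quotient.algebraMap_eq, Polynomial.aeval_map_algebraMap]
  have hQ : P'.HasMap Q.x := by
    refine ⟨?_, ?_⟩
    · change aeval Q.x F = 0
      rw [← e₁ C, hF₁]
      exact Q.hasMap.1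
    · change IsUnit (aeval Q.x (derivative F * G))
      rw [← e₁ C, Polynomial.map_mul, ← Polynomial.derivative_map, hF₁, hG, map_mul]
      exact Q.hasMap.isUnit_derivative_f.mul Q.hasMap.2
  let J : Ideal P'.Ring := I.map (algebraMap A P'.Ring)
  letI : Algebra (A ⧸ I) (P'.Ring ⧸ J) :=
    (Ideal.quotientMap J (algebraMap A P'.Ring) Ideal.le_comap_map).toAlgebra
  have : IsScalarTower A (A ⧸ I) (P'.Ring ⧸ J) := IsScalarTower.of_algebraMap_eq fun _ => rfl
  let x' : P'.Ring ⧸ J := Ideal.Quotient.mk J P'.X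
  have hx' : Q.P.HasMap x' := by
    have h : P'.HasMap x' := P'.hasMap_X.map (Ideal.Quotient.mkₐ A J)
    refine ⟨?_, ?_⟩
    · rw [← hF₁, e₁]
      exact h.1
    · have hu : IsUnit (aeval x' (derivative F * G)) := h.2
      rw [← hG, e₁]
      rw [map_mul] at hu
      exact isUnit_of_mul_isUnit_right hu
  let φ : C →ₐ[A ⧸ I] P'.Ring ⧸ J := (Q.P.lift x' hx').comp Q.equivRing.toAlgHom
  let ψ : P'.Ring ⧸ J →+* C := Ideal.Quotient.lift J (P'.lift Q.x hQ).toRingHom fun x hx =>
    RingHom.mem_ker.1 (Ideal.map_le_iff_le_comap.2 (show I ≤ (RingHom.ker (P'.lift Q.x hQ).toRingHom).comap (algebraMap A P'.Ring) from fun a ha => by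
      rw [Ideal.mem_comap, RingHom.mem_ker]
      refine ((P'.lift Q.x hQ).commutes a).trans ?_
      change algebraMap (A ⧸ I) C (Ideal.Quotient.mk I a) = 0
      rw [Ideal.Quotient.eq_zero_iff_mem.2 ha, map_zero]) hx)
  let ψ' : P'.Ring ⧸ J →ₐ[A ⧸ I] C :=
    { ψ with
      commutes' := fun r => by
        obtain ⟨a, rfl⟩ := Ideal.Quotient.mk_surjective r
        exact (P'.lift Q.x hQ).commutes a }
  refine ⟨P'.Ring, inferInstance, inferInstance, inferInstance, φ.toRingHom, ψ,
    RingHom.ext φ.commutes, ?_⟩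
  have h : ψ'.comp φ = AlgHom.id (A ⧸ I) C := Q.hom_ext (by
    rw [AlgHom.comp_apply, show φ Q.x = x' by simp [φ]]
    exact P'.lift_X Q.x hQ)
  exact congrArg AlgHom.toRingHom h

/-- An etale neighbourhood over a closed subscheme of an affine scheme is dominated by the
restriction of an etale neighbourhood of the affine scheme. -/
theorem exists_etale_nbhd {A : Type u} [CommRing A] (I : Ideal A)
    {W : Scheme.{u}} (π : W ⟶ Spec (CommRingCat.of (A ⧸ I))) [Etale π] (w : W) :
    ∃ (B : CommRingCat.{u}) (e : CommRingCat.of A ⟶ B) (_ : Etale (Spec.map e))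
      (m : Spec (CommRingCat.of (B ⧸ I.map e.hom)) ⟶ W),
      m ≫ π = Spec.map (CommRingCat.ofHom
        (Ideal.quotientMap (I.map e.hom) e.hom Ideal.le_comap_map)) ∧
      w ∈ Set.range m := by
  obtain ⟨_, ⟨U, hU, rfl⟩, hwU, -⟩ :=
    W.isBasis_affineOpens.exists_subset_of_mem_open (Set.mem_univ w) isOpen_univ
  replace hU : IsAffineOpen U := hU
  obtain ⟨q, hq⟩ : w ∈ Set.range hU.fromSpec := hU.range_fromSpec.symm ▸ hwU
  have := hU.isOpenImmersion_fromSpec
  obtain ⟨γ, hγ⟩ := Spec.map_surjective (hU.fromSpec ≫ π)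
  let : Algebra (A ⧸ I) Γ(W, U) := γ.hom.toAlgebra
  have hγe : Etale (Spec.map γ) := by rw [hγ]; infer_instance
  have : Algebra.Etale (A ⧸ I) Γ(W, U) := (HasRingHomProperty.Spec_iff (P := @Etale)).1 hγe
  have : q.asIdeal.IsPrime := q.2
  obtain ⟨f, hfq, hstd⟩ :=
    Algebra.IsEtaleAt.exists_isStandardEtale (R := A ⧸ I) q.asIdeal
  obtain ⟨B, _, _, _, φ, ψ, hφ, hψφ⟩ := exists_retract I (Localization.Away f)
  let loc : Γ(W, U) ⟶ CommRingCat.of (Localization.Away f) :=
    CommRingCat.ofHom (algebraMap Γ(W, U) (Localization.Away f))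
  refine ⟨CommRingCat.of B, CommRingCat.ofHom (algebraMap A B), ?_,
    Spec.map (CommRingCat.ofHom φ) ≫ Spec.map loc ≫ hU.fromSpec, ?_, ?_⟩
  · exact (HasRingHomProperty.Spec_iff (P := @Etale)).2 (RingHom.etale_algebraMap.2 inferInstance)
  · rw [Category.assoc, Category.assoc, ← hγ, ← Spec.map_comp, ← Spec.map_comp]
    congr 1
    exact CommRingCat.hom_ext hφ
  · obtain ⟨c, hc⟩ : q ∈ Set.range (PrimeSpectrum.comap
        (algebraMap Γ(W, U) (Localization.Away f))) :=
      (PrimeSpectrum.localization_away_comap_range (Localization.Away f) f).symm ▸ hfq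
    refine ⟨Spec.map (CommRingCat.ofHom ψ) c, ?_⟩
    rw [← Scheme.Hom.comp_apply, ← Spec.map_comp_assoc, ← CommRingCat.ofHom_comp, hψφ,
      CommRingCat.ofHom_id, Spec.map_id, Category.id_comp, ← hq, ← hc]
    rfl

/-- A closed subscheme cut out by a locally nilpotent ideal has all points. -/
theorem surjective_specMap_mk {A : Type u} [CommRing A] (J : Ideal A)
    (hJ : ∀ x ∈ J, IsNilpotent x) :
    Function.Surjective (Spec.map (CommRingCat.ofHom (Ideal.Quotient.mk J))) := by
  intro p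
  have h : p ∈ Set.range (PrimeSpectrum.comap (Ideal.Quotient.mk J)) := by
    rw [range_comap_of_surjective _ _ Ideal.Quotient.mk_surjective, Ideal.mk_ker]
    change (J : Set A) ⊆ p.asIdeal
    intro x hx
    obtain ⟨n, hn⟩ := hJ x hx
    exact p.2.mem_of_pow_mem n (hn ▸ p.asIdeal.zero_mem)
  exact h

/-- Maps to smooth schemes lift Zariski locally along locally nilpotent ideals. -/
theorem exists_lift_smooth {X Y : Scheme.{u}} (f : X ⟶ Y) [Smooth f] {B : CommRingCat.{u}}
    (J : Ideal B) (hJ : ∀ x ∈ J, IsNilpotent x) (a : Spec (CommRingCat.of (B ⧸ J)) ⟶ X)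
    (b : Spec B ⟶ Y) (w : Spec.map (CommRingCat.ofHom (Ideal.Quotient.mk J)) ≫ b = a ≫ f)
    (p : Spec B) :
    ∃ (B' : CommRingCat.{u}) (φ : B ⟶ B') (_ : IsOpenImmersion (Spec.map φ))
      (l : Spec B' ⟶ X), p ∈ Set.range (Spec.map φ) ∧ l ≫ f = Spec.map φ ≫ b ∧
      Spec.map (CommRingCat.ofHom (Ideal.Quotient.mk (J.map φ.hom))) ≫ l =
        Spec.map (CommRingCat.ofHom (Ideal.quotientMap (J.map φ.hom) φ.hom Ideal.le_comap_map)) ≫ a := by
  let q := Spec.map (CommRingCat.ofHom (Ideal.Quotient.mk J))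
  obtain ⟨p₀, hp₀⟩ := surjective_specMap_mk J hJ p
  have hq : ∀ x, b (q x) = f (a x) := fun x => by
    rw [← Scheme.Hom.comp_apply, ← Scheme.Hom.comp_apply, w]
  obtain ⟨_, ⟨V, hV, rfl⟩, hxV, -⟩ := Y.isBasis_affineOpens.exists_subset_of_mem_open
    (Set.mem_univ (f (a p₀))) isOpen_univ
  obtain ⟨_, ⟨U, hU, rfl⟩, hxU, hUV⟩ := X.isBasis_affineOpens.exists_subset_of_mem_open
    (show a p₀ ∈ f ⁻¹ᵁ V from hxV) (f ⁻¹ᵁ V).isOpen
  replace hV : IsAffineOpen V := hV
  replace hU : IsAffineOpen U := hU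
  obtain ⟨_, ⟨g₀, rfl⟩, hpg, hgs⟩ :=
    PrimeSpectrum.isTopologicalBasis_basic_opens.exists_subset_of_mem_open
      (show p₀ ∈ a ⁻¹ᵁ U from hxU) (a ⁻¹ᵁ U).isOpen
  obtain ⟨g, rfl⟩ := Ideal.Quotient.mk_surjective g₀
  let B' := CommRingCat.of (Localization.Away g)
  let φ : B ⟶ B' := CommRingCat.ofHom (algebraMap B (Localization.Away g))
  have hoi : IsOpenImmersion (Spec.map φ) := .of_isLocalization g
  have hrange : Set.range (Spec.map φ) = (PrimeSpectrum.basicOpen g : Set (PrimeSpectrum B)) :=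
    PrimeSpectrum.localization_away_comap_range (Localization.Away g) g
  let J' := J.map φ.hom
  let q' := Spec.map (CommRingCat.ofHom (Ideal.Quotient.mk J'))
  let r := Spec.map (CommRingCat.ofHom (Ideal.quotientMap J' φ.hom Ideal.le_comap_map))
  have hsq : r ≫ q = q' ≫ Spec.map φ := (isPullback_quotient φ J).w
  have hJ' : ∀ x ∈ J', IsNilpotent x := fun x hx =>
    mem_nilradical.1 (Ideal.map_le_iff_le_comap.2
      (show J ≤ (nilradical B').comap φ.hom from fun y hy => (hJ y hy).map φ.hom) hx)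
  have hra : ∀ x, a (r x) ∈ U := fun x => by
    refine hgs ?_
    have h₁ : q (r x) ∈ Set.range (Spec.map φ) := ⟨q' x, by
      rw [← Scheme.Hom.comp_apply, ← Scheme.Hom.comp_apply, hsq]⟩
    rw [hrange] at h₁
    exact h₁
  have hrb : ∀ x, (Spec.map φ ≫ b) x ∈ V := fun x => by
    obtain ⟨x₀, rfl⟩ := surjective_specMap_mk J' hJ' x
    rw [← Scheme.Hom.comp_apply, ← Category.assoc, ← hsq, Category.assoc, w, Scheme.Hom.comp_apply,
      Scheme.Hom.comp_apply]
    exact hUV (hra x₀)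
  have := hV.isOpenImmersion_fromSpec
  have := hU.isOpenImmersion_fromSpec
  obtain ⟨β, hβ⟩ := Spec.map_surjective (IsOpenImmersion.lift hV.fromSpec (Spec.map φ ≫ b) (by
    rintro _ ⟨x, rfl⟩; rw [hV.range_fromSpec]; exact hrb x))
  obtain ⟨α, hα⟩ := Spec.map_surjective (IsOpenImmersion.lift hU.fromSpec (r ≫ a) (by
    rintro _ ⟨x, rfl⟩; rw [hU.range_fromSpec]; exact hra x))
  have hβ' : Spec.map β ≫ hV.fromSpec = Spec.map φ ≫ b := by
    rw [hβ, IsOpenImmersion.lift_fac]
  have hα' : Spec.map α ≫ hU.fromSpec = r ≫ a := by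
    rw [hα, IsOpenImmersion.lift_fac]
  have hαβ : β ≫ CommRingCat.ofHom (Ideal.Quotient.mk J') = f.appLE V U hUV ≫ α := by
    apply Spec.map_injective
    rw [← cancel_mono hV.fromSpec, Spec.map_comp, Spec.map_comp, Category.assoc, hβ',
      Category.assoc, hV.SpecMap_appLE_fromSpec f hU hUV, reassoc_of% hα', ← w,
      ← Category.assoc, ← Category.assoc, show r ≫ q = q' ≫ Spec.map φ from hsq]
  have hs : (f.appLE V U hUV).hom.Smooth := f.smooth_appLE hV hU hUV
  algebraize [(f.appLE V U hUV).hom, β.hom]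
  let σ : Γ(X, U) →ₐ[Γ(Y, V)] B' ⧸ J' :=
    { α.hom with commutes' := fun x => (congrArg (fun m => m.hom x) hαβ).symm }
  have := Henselian.Basic.henselianRing_of_nil hJ'
  obtain ⟨τ, hτ⟩ := Henselian.Smooth.exists_algHom_lift_smooth J' σ
  refine ⟨B', φ, hoi, Spec.map (CommRingCat.ofHom τ.toRingHom) ≫ hU.fromSpec, ?_, ?_, ?_⟩
  · rw [hrange, ← hp₀]
    exact hpg
  · rw [Category.assoc, ← hV.SpecMap_appLE_fromSpec f hU hUV, ← Spec.map_comp_assoc, ← hβ']
    congr 2
    exact CommRingCat.hom_ext (RingHom.ext τ.commutes)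
  · refine Eq.trans ?_ hα'
    rw [← Spec.map_comp_assoc]
    congr 2
    exact CommRingCat.hom_ext (RingHom.ext fun x => AlgHom.congr_fun hτ x)

end Groth.Agent.Lib.SmoothLift.NilLift
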