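import Groth.Agent.Lib.Unram.ArtinianLifting
import Groth.Agent.Lib.SmoothLift.Formal

/-!
# Smoothness by lifting along small extensions of Artinian local rings
-/

set_option autoImplicit false
set_option linter.style.haveILetI false

universe u

open IsLocalRing CategoryTheory AlgebraicGeometry

namespace Groth.Agent.Lib.SmoothLift.SmallExt

section Ring

variable {R S A' : Type u} [CommRing R] [CommRing S] [Algebra R S]
  [CommRing A'] [IsLocalRing A'] [IsArtinianRing A'] [Algebra R A']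

/-- In an Artinian local ring whose residue field is a quotient of a finitely generated algebra,
all elements are polynomials in finitely many. -/
theorem finiteType_of_residue [Algebra.FiniteType R S] (v : S →ₐ[R] A' ⧸ maximalIdeal A')
    (hv : Function.Surjective v) : Algebra.FiniteType R A' := by
  classical
  obtain ⟨T, hT⟩ := (Algebra.FiniteType.out : (⊤ : Subalgebra R S).FG)
  obtain ⟨G, hG⟩ : (maximalIdeal A').FG := IsNoetherian.noetherian _
  choose l hl using fun s : S ↦ Ideal.Quotient.mk_surjective (v s)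
  let A₀ : Subalgebra R A' := Algebra.adjoin R ↑(T.image l ∪ G)
  have hG₀ : ∀ g ∈ G, g ∈ A₀ := fun g hg ↦
    Algebra.subset_adjoin (Finset.mem_coe.2 (Finset.mem_union_right _ hg))
  have hGm : ∀ g ∈ G, g ∈ maximalIdeal A' := fun g hg ↦ hG ▸ Ideal.subset_span hg
  have h0 : ∀ a : A', ∃ a₀ ∈ A₀, a - a₀ ∈ maximalIdeal A' := by
    intro a
    obtain ⟨s, hs⟩ := hv (Ideal.Quotient.mk _ a)
    have hsA : v s ∈ A₀.map (Ideal.Quotient.mkₐ R (maximalIdeal A')) := by
      have : Algebra.adjoin R (T : Set S) ≤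
          (A₀.map (Ideal.Quotient.mkₐ R (maximalIdeal A'))).comap v :=
        Algebra.adjoin_le fun t ht ↦ ⟨l t, Algebra.subset_adjoin
          (Finset.mem_coe.2 (Finset.mem_union_left _ (Finset.mem_image_of_mem _ ht))), hl t⟩
      exact this (hT ▸ Algebra.mem_top)
    obtain ⟨a₀, ha₀, he⟩ := hsA
    exact ⟨a₀, ha₀, Ideal.Quotient.eq.1 (hs.symm.trans he.symm)⟩
  have h1 : ∀ r ∈ maximalIdeal A', ∃ a₀ ∈ A₀, a₀ ∈ maximalIdeal A' ∧
      r - a₀ ∈ maximalIdeal A' ^ 2 := by
    intro r hr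
    rw [← hG] at hr
    induction hr using Submodule.span_induction with
    | mem g hg => exact ⟨g, hG₀ g hg, hGm g hg, by rw [sub_self]; exact zero_mem _⟩
    | zero => exact ⟨0, zero_mem _, zero_mem _, by rw [sub_zero]; exact zero_mem _⟩
    | add x y _ _ hx hy =>
      obtain ⟨a, ha, ham, hxa⟩ := hx
      obtain ⟨b, hb, hbm, hyb⟩ := hy
      exact ⟨a + b, add_mem ha hb, add_mem ham hbm, by
        rw [add_sub_add_comm]; exact add_mem hxa hyb⟩
    | smul c x hx hxa =>
      obtain ⟨a, ha, ham, hxa⟩ := hxa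
      obtain ⟨c₀, hc₀, hc⟩ := h0 c
      refine ⟨c₀ * a, mul_mem hc₀ ha, Ideal.mul_mem_left _ _ ham, ?_⟩
      have e : c • x - c₀ * a = c * (x - a) + (c - c₀) * a := by
        rw [smul_eq_mul]; ring
      rw [e]
      refine add_mem (Ideal.mul_mem_left _ _ hxa) ?_
      rw [pow_two]
      exact Ideal.mul_mem_mul hc ham
  have hk : ∀ (k : ℕ), ∀ x ∈ maximalIdeal A' ^ k, ∃ a ∈ A₀,
      x - a ∈ maximalIdeal A' ^ (k + 1) := by
    intro k
    induction k with
    | zero =>
      intro x _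
      obtain ⟨a, ha, hxa⟩ := h0 x
      exact ⟨a, ha, by rwa [zero_add, pow_one]⟩
    | succ k ih =>
      intro x hx
      rw [pow_succ'] at hx
      refine Submodule.mul_induction_on hx (fun r hr y hy ↦ ?_) fun p q hp hq ↦ ?_
      · obtain ⟨r₀, hr₀, hr₀m, hr'⟩ := h1 r hr
        obtain ⟨a, ha, hya⟩ := ih y hy
        refine ⟨r₀ * a, mul_mem hr₀ ha, ?_⟩
        have e : r * y - r₀ * a = (r - r₀) * y + r₀ * (y - a) := by ring
        rw [e]
        refine add_mem ?_ ?_
        · rw [show k + 1 + 1 = 2 + k by omega, pow_add]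
          exact Ideal.mul_mem_mul hr' hy
        · rw [pow_succ']
          exact Ideal.mul_mem_mul hr₀m hya
      · obtain ⟨a, ha, hpa⟩ := hp
        obtain ⟨b, hb, hqb⟩ := hq
        exact ⟨a + b, add_mem ha hb, by rw [add_sub_add_comm]; exact add_mem hpa hqb⟩
  obtain ⟨N, hN⟩ := (isArtinianRing_iff_isNilpotent_maximalIdeal A').1 ‹_›
  refine ⟨⟨T.image l ∪ G, eq_top_iff.2 fun a _ ↦ ?_⟩⟩
  have : ∀ k, ∃ a₀ ∈ A₀, a - a₀ ∈ maximalIdeal A' ^ k := by
    intro k
    induction k with
    | zero => exact ⟨0, zero_mem _, by simp⟩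
    | succ k ih =>
      obtain ⟨a₀, ha₀, h⟩ := ih
      obtain ⟨b, hb, h'⟩ := hk k _ h
      exact ⟨a₀ + b, add_mem ha₀ hb, by rwa [← sub_sub]⟩
  obtain ⟨a₀, ha₀, h⟩ := this N
  rw [hN] at h
  have h' : a - a₀ = 0 := by simpa using h
  rw [sub_eq_zero.1 h']
  exact ha₀

/-- Lifting along small extensions gives lifting along extensions killed by the maximal ideal. -/
theorem exists_lift (I : Ideal A')
    (g₀ : S →ₐ[R] A' ⧸ I)
    (hsmall : ∀ (J' J : Ideal A') (_ : J' ≤ J) (_ : J ≤ I) (t : A') (_ : J = J' ⊔ Ideal.span {t})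
      (g : S →ₐ[R] A' ⧸ J),
      (∀ s a, g s = Ideal.Quotient.mk J a → g₀ s = Ideal.Quotient.mk I a) →
      ∃ g' : S →ₐ[R] A' ⧸ J', ∀ s a, g' s = Ideal.Quotient.mk J' a →
        g s = Ideal.Quotient.mk J a) :
    ∃ g : S →ₐ[R] A', (Ideal.Quotient.mkₐ R I).comp g = g₀ := by
  let P : Ideal A' → Prop := fun J ↦ J ≤ I ∧ ∃ g : S →ₐ[R] A' ⧸ J,
    ∀ s a, g s = Ideal.Quotient.mk J a → g₀ s = Ideal.Quotient.mk I a
  obtain ⟨J, ⟨hJI, g, hg⟩, hmin⟩ := (wellFounded_lt (α := Ideal A')).has_min {J | P J}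
    ⟨I, le_rfl, g₀, fun _ _ h ↦ h⟩
  by_cases hJ : J = ⊥
  · subst hJ
    refine ⟨(AlgEquiv.quotientBot R A').toAlgHom.comp g, AlgHom.ext fun s ↦ ?_⟩
    obtain ⟨a, ha⟩ := Ideal.Quotient.mk_surjective (g s)
    rw [hg s a ha.symm]
    show Ideal.Quotient.mk I (AlgEquiv.quotientBot R A' (g s)) = _
    rw [← ha]
    exact congrArg _ (by simp)
  · obtain ⟨J', hJ', hmax⟩ := (wellFounded_gt (α := Ideal A')).has_min {J' | J' < J}
      ⟨⊥, bot_lt_iff_ne_bot.2 hJ⟩
    obtain ⟨t, htJ, htJ'⟩ := SetLike.exists_of_lt (show J' < J from hJ')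
    have hle : J' ⊔ Ideal.span {t} ≤ J :=
      sup_le hJ'.le ((Ideal.span_singleton_le_iff_mem _).2 htJ)
    have hgt : J' < J' ⊔ Ideal.span {t} := lt_of_le_of_ne le_sup_left fun h ↦
      htJ' (h ▸ Ideal.mem_sup_right (Ideal.mem_span_singleton_self t))
    have heq : J = J' ⊔ Ideal.span {t} := by
      rcases hle.lt_or_eq with h | h
      · exact absurd hgt (hmax _ h)
      · exact h.symm
    obtain ⟨g', hg'⟩ := hsmall J' J hJ'.le hJI t heq g hg
    exact absurd hJ' (hmin J' ⟨hJ'.le.trans hJI, g',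
      fun s a h ↦ hg s a (hg' s a h)⟩)

end Ring

variable {R S : Type u} [CommRing R] [CommRing S] [Algebra R S]

/-- The small-extension lifting property at a prime. -/
def SmallLifts (R : Type u) [CommRing R] {S : Type u} [CommRing S] [Algebra R S]
    (ok : ∀ (B' : Type u) [CommRing B'] [Algebra R B'], Prop) (q : Ideal S) : Prop :=
  ∀ (B' B : Type u) [CommRing B'] [CommRing B] [IsLocalRing B'] [IsLocalRing B]
    [IsArtinianRing B'] [IsArtinianRing B] [Algebra R B'] [Algebra R B] (π : B' →ₐ[R] B),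
    ok B' → Function.Surjective π →
    (∃ t : B', RingHom.ker π.toRingHom = Ideal.span {t} ∧
      ∀ a ∈ maximalIdeal B', a * t = 0) →
    ∀ g : S →ₐ[R] B, (maximalIdeal B).comap g = q → ∃ g' : S →ₐ[R] B', π.comp g' = g

/-- A finite type algebra over a Noetherian ring with small lifting is smooth at the prime. -/
theorem isSmoothAt [IsNoetherianRing R] [Algebra.FiniteType R S] (q : Ideal S) [q.IsPrime]
    (ok : ∀ (B' : Type u) [CommRing B'] [Algebra R B'], Prop)
    (hok : ∀ (A' : Type u) [CommRing A'] [IsLocalRing A'] [IsArtinianRing A'] [Algebra R A']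
      (v : Localization.AtPrime q →ₐ[R] A' ⧸ maximalIdeal A'), Function.Surjective v →
      ∀ J : Ideal A', ok (A' ⧸ J))
    (H : SmallLifts R ok q) : Algebra.IsSmoothAt R q := by
  refine Unram.ArtinianLifting.formallySmooth_of_hasLifts S q ?_
  intro A' _ _ _ h I hI hI0 g₀ hcomp hmax hsurj
  letI := h.toAlgebra
  let B := Localization.AtPrime q
  have hIm : I ≤ maximalIdeal A' := le_maximalIdeal hI
  let G₀ : B →ₐ[R] A' ⧸ I := ⟨g₀, fun r ↦ RingHom.congr_fun hcomp r⟩
  let v : B →ₐ[R] A' ⧸ maximalIdeal A' := (Ideal.Quotient.factorₐ R hIm).comp G₀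
  have hv : Function.Surjective v := fun y ↦ by
    obtain ⟨a, rfl⟩ := Ideal.Quotient.mk_surjective y
    obtain ⟨b, hb⟩ := hsurj a
    refine ⟨b, ?_⟩
    obtain ⟨c, hc⟩ := Ideal.Quotient.mk_surjective (g₀ b)
    rw [← hc, ← map_sub, Ideal.mem_quotient_iff_mem hIm] at hb
    show Ideal.Quotient.factor hIm (g₀ b) = _
    rw [← hc, Ideal.Quotient.factor_mk]
    exact Ideal.Quotient.eq.2 hb
  let G : S →ₐ[R] A' ⧸ I := G₀.comp (IsScalarTower.toAlgHom R S B)
  have hG : ∀ s a, G s = Ideal.Quotient.mk I a → (s ∈ q ↔ a ∈ maximalIdeal A') := by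
    intro s a hsa
    constructor
    · intro hs
      have h1 := hmax (algebraMap S B s) ((IsLocalization.AtPrime.to_map_mem_maximal_iff B q s).2 hs)
      rw [show g₀ (algebraMap S B s) = _ from hsa, Ideal.mem_quotient_iff_mem hIm] at h1
      exact h1
    · intro ha
      by_contra hs
      have hu : IsUnit (G s) :=
        (IsLocalization.map_units B (⟨s, hs⟩ : q.primeCompl)).map g₀
      haveI : Nontrivial (A' ⧸ I) := Ideal.Quotient.nontrivial_iff.2 hI
      haveI := IsLocalHom.of_surjective (Ideal.Quotient.mk I) Ideal.Quotient.mk_surjective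
      rw [hsa] at hu
      exact ha (isUnit_of_map_unit (Ideal.Quotient.mk I) a hu)
  obtain ⟨g, hg⟩ := exists_lift I G fun J' J hJ' hJ t ht φ hφ ↦ by
    have hJtop : J ≠ ⊤ := fun e ↦ hI (top_le_iff.1 (e ▸ hJ))
    have hJ'top : J' ≠ ⊤ := fun e ↦ hJtop (top_le_iff.1 (e ▸ hJ'))
    haveI : Nontrivial (A' ⧸ J) := Ideal.Quotient.nontrivial_iff.2 hJtop
    haveI : Nontrivial (A' ⧸ J') := Ideal.Quotient.nontrivial_iff.2 hJ'top
    haveI : IsLocalRing (A' ⧸ J) := .of_surjective' _ Ideal.Quotient.mk_surjective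
    haveI : IsLocalRing (A' ⧸ J') := .of_surjective' _ Ideal.Quotient.mk_surjective
    have hmem : ∀ {K : Ideal A'} (hK : K ≠ ⊤) [IsLocalRing (A' ⧸ K)] (a : A'),
        Ideal.Quotient.mk K a ∈ maximalIdeal (A' ⧸ K) ↔ a ∈ maximalIdeal A' := by
      intro K hK _ a
      haveI : Nontrivial (A' ⧸ K) := Ideal.Quotient.nontrivial_iff.2 hK
      haveI := IsLocalHom.of_surjective (Ideal.Quotient.mk K) Ideal.Quotient.mk_surjective
      exact not_congr (isUnit_map_iff (Ideal.Quotient.mk K) a)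
    let π : A' ⧸ J' →ₐ[R] A' ⧸ J := Ideal.Quotient.factorₐ R hJ'
    have hπ : ∀ a, π (Ideal.Quotient.mk J' a) = Ideal.Quotient.mk J a := fun _ ↦ rfl
    have hker : RingHom.ker π.toRingHom = Ideal.span {Ideal.Quotient.mk J' t} := by
      ext y
      obtain ⟨a, rfl⟩ := Ideal.Quotient.mk_surjective y
      rw [RingHom.mem_ker, Ideal.mem_span_singleton']
      show π (Ideal.Quotient.mk J' a) = 0 ↔ _
      rw [hπ, Ideal.Quotient.eq_zero_iff_mem, ht]
      constructor
      · intro ha
        obtain ⟨j, hj, z, hz, rfl⟩ := Submodule.mem_sup.1 ha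
        obtain ⟨c, rfl⟩ := Ideal.mem_span_singleton'.1 hz
        exact ⟨Ideal.Quotient.mk J' c, by
          rw [map_add, Ideal.Quotient.eq_zero_iff_mem.2 hj, zero_add, map_mul]⟩
      · rintro ⟨c, hc⟩
        obtain ⟨c, rfl⟩ := Ideal.Quotient.mk_surjective c
        rw [← map_mul, Ideal.Quotient.eq] at hc
        have e : a = c * t - (c * t - a) := by ring
        rw [e]
        exact sub_mem (Ideal.mem_sup_right (Ideal.mul_mem_left _ _ (Ideal.mem_span_singleton_self t)))
          (Ideal.mem_sup_left hc)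
    obtain ⟨φ', hφ'⟩ := H (A' ⧸ J') (A' ⧸ J) π (hok A' v hv J')
      (fun y ↦ by
        obtain ⟨a, rfl⟩ := Ideal.Quotient.mk_surjective y
        exact ⟨Ideal.Quotient.mk J' a, hπ a⟩)
      ⟨_, hker, fun y hy ↦ by
        obtain ⟨a, rfl⟩ := Ideal.Quotient.mk_surjective y
        rw [← map_mul, mul_comm]
        have : t * a ∈ I * maximalIdeal A' := Ideal.mul_mem_mul
          (hJ (ht.ge (Ideal.mem_sup_right (Ideal.mem_span_singleton_self t))))
          ((hmem hJ'top a).1 hy)
        rw [hI0, Ideal.mem_bot] at this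
        rw [this, map_zero]⟩ φ (by
        ext s
        obtain ⟨a, ha⟩ := Ideal.Quotient.mk_surjective (φ s)
        rw [Ideal.mem_comap, ← ha, hmem hJtop]
        exact (hG s a (hφ s a ha.symm)).symm)
    refine ⟨φ', fun s a hsa ↦ ?_⟩
    rw [← AlgHom.congr_fun hφ' s, AlgHom.comp_apply, hsa, hπ]
  have hunit : ∀ y : q.primeCompl, IsUnit (g y) := fun y ↦ by
    by_contra hna
    exact y.2 ((hG y (g y) (AlgHom.congr_fun hg y).symm).2 hna)
  refine ⟨IsLocalization.lift (S := B) (g := g.toRingHom) hunit, ?_, ?_⟩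
  · refine RingHom.ext fun r ↦ ?_
    rw [RingHom.comp_apply, IsScalarTower.algebraMap_apply R S B, IsLocalization.lift_eq]
    exact g.commutes r
  · refine IsLocalization.ringHom_ext q.primeCompl (RingHom.ext fun s ↦ ?_)
    rw [RingHom.comp_apply, RingHom.comp_apply, RingHom.comp_apply, IsLocalization.lift_eq]
    exact AlgHom.congr_fun hg s

/-- Formally smooth algebras lift along small extensions. -/
theorem smallLifts_of_isSmoothAt (q : Ideal S) [q.IsPrime]
    (ok : ∀ (B' : Type u) [CommRing B'] [Algebra R B'], Prop) [Algebra.IsSmoothAt R q] :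
    SmallLifts R ok q := by
  intro B' B _ _ _ _ _ _ _ _ π _ hπ ⟨t, ht, htm⟩ g hgq
  haveI : Nontrivial B := inferInstance
  have hu : ∀ y : q.primeCompl, IsUnit (g y) := fun y ↦ by
    by_contra h
    exact y.2 (hgq ▸ h)
  let gq : Localization.AtPrime q →ₐ[R] B :=
    IsLocalization.liftAlgHom (M := q.primeCompl) (f := g) hu
  have hsq : IsNilpotent (RingHom.ker (π : B' →+* B)) := by
    refine ⟨2, ?_⟩
    change RingHom.ker π.toRingHom ^ 2 = 0
    rw [ht, Ideal.span_singleton_pow, Ideal.zero_eq_bot, Ideal.span_singleton_eq_bot, pow_two]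
    refine htm t (le_maximalIdeal (RingHom.ker_ne_top π.toRingHom) ?_)
    rw [ht]
    exact Ideal.mem_span_singleton_self t
  refine ⟨(Algebra.FormallySmooth.liftOfSurjective gq π hπ hsq).comp
    (IsScalarTower.toAlgHom R S _), AlgHom.ext fun s ↦ ?_⟩
  show π (Algebra.FormallySmooth.liftOfSurjective gq π hπ hsq _) = g s
  exact (Algebra.FormallySmooth.liftOfSurjective_apply gq π hπ hsq _).trans
    (IsLocalization.lift_eq _ s)

section Scheme

variable {X Y : Scheme.{u}}

/-- Small-extension lifting against maps locally of finite type gives smoothness. -/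
theorem smooth_of_lifting (f : X ⟶ Y) [IsLocallyNoetherian Y] [LocallyOfFiniteType f]
    (H : ∀ (B B' : Type u) [CommRing B] [CommRing B'] [IsArtinianRing B] [IsArtinianRing B']
      [IsLocalRing B] [IsLocalRing B'] (φ : B' →+* B) (ε : B'), Function.Surjective φ →
      RingHom.ker φ = Ideal.span {ε} → (∀ m ∈ maximalIdeal B', ε * m = 0) →
      ∀ (α : Spec (CommRingCat.of B) ⟶ X) (β : Spec (CommRingCat.of B') ⟶ Y),
        LocallyOfFiniteType β → Spec.map (CommRingCat.ofHom φ) ≫ β = α ≫ f →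
        ∃ γ : Spec (CommRingCat.of B') ⟶ X,
          Spec.map (CommRingCat.ofHom φ) ≫ γ = α ∧ γ ≫ f = β) : Smooth f := by
  rw [HasRingHomProperty.iff_appLE (P := @Smooth)]
  rintro ⟨U, hU'⟩ ⟨V, hV'⟩ hVU
  have hU : IsAffineOpen U := hU'
  have hV : IsAffineOpen V := hV'
  haveI := hU.isOpenImmersion_fromSpec
  haveI := hV.isOpenImmersion_fromSpec
  haveI : IsNoetherianRing Γ(Y, U) := IsLocallyNoetherian.component_noetherian ⟨U, hU⟩
  have hft := f.finiteType_appLE hU hV hVU
  let R : Type u := Γ(Y, U)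
  let S : Type u := Γ(X, V)
  letI : Algebra R S := (f.appLE U V hVU).hom.toAlgebra
  haveI : Algebra.FiniteType R S := hft
  haveI : Algebra.FinitePresentation R S := Algebra.FinitePresentation.of_finiteType.1 ‹_›
  show Algebra.Smooth R S
  haveI : Algebra.FormallySmooth R S := by
    rw [← Algebra.smoothLocus_eq_univ_iff, Set.eq_univ_iff_forall]
    intro P
    obtain ⟨q, hq, hPq⟩ := Ideal.exists_le_maximal P.asIdeal P.2.ne_top
    refine Specializes.mem_open ((PrimeSpectrum.le_iff_specializes P ⟨q, hq.isPrime⟩).1 hPq)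
      Algebra.isOpen_smoothLocus ?_
    refine isSmoothAt q (fun B' _ _ ↦ (algebraMap R B').FiniteType) ?_ ?_
    · intro A' _ _ _ _ v hv J
      haveI := hq
      have : Function.Surjective (v.comp (IsScalarTower.toAlgHom R S _)) := fun y ↦ by
        obtain ⟨z, rfl⟩ := hv y
        obtain ⟨⟨s, t⟩, hst⟩ := IsLocalization.surj q.primeCompl z
        obtain ⟨i, j, hj, hij⟩ := hq.exists_inv t.2
        refine ⟨s * i, ?_⟩
        have hz : v (algebraMap S _ j) = 0 := by
          by_contra hne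
          let : Field (A' ⧸ maximalIdeal A') := Ideal.Quotient.field _
          have hu : IsUnit (v (algebraMap S _ j)) := isUnit_iff_ne_zero.2 hne
          haveI : IsLocalHom v.toRingHom := IsLocalHom.of_surjective _ hv
          exact (IsLocalization.AtPrime.to_map_mem_maximal_iff _ q j).2 hj
            (isUnit_of_map_unit v.toRingHom _ hu)
        have h1 : v (algebraMap S (Localization.AtPrime q) (↑t * i)) = 1 := by
          have := congrArg (fun x ↦ v (algebraMap S (Localization.AtPrime q) x)) hij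
          simp only [map_add, map_one, hz, add_zero] at this
          rwa [mul_comm (↑t : S) i]
        show v (algebraMap S (Localization.AtPrime q) (s * i)) = v z
        rw [map_mul (algebraMap S (Localization.AtPrime q)), ← hst, mul_assoc, ← map_mul,
          map_mul v, h1, mul_one]
      haveI := finiteType_of_residue (v.comp (IsScalarTower.toAlgHom R S _)) this
      exact RingHom.finiteType_algebraMap.2
        (Algebra.FiniteType.of_surjective (Ideal.Quotient.mkₐ R J) Ideal.Quotient.mk_surjective)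
    · intro B' B _ _ _ _ _ _ _ _ π hok hπ ⟨ε, hε, hεm⟩ g hgq
      have hcomm : CommRingCat.ofHom (algebraMap R B') ≫ CommRingCat.ofHom π.toRingHom =
          f.appLE U V hVU ≫ CommRingCat.ofHom g.toRingHom :=
        CommRingCat.hom_ext (RingHom.ext fun r ↦ (π.commutes r).trans (g.commutes r).symm)
      haveI : LocallyOfFiniteType (Spec.map (CommRingCat.ofHom (algebraMap R B'))) :=
        (HasRingHomProperty.Spec_iff (P := @LocallyOfFiniteType)).2 hok
      obtain ⟨γ, hγ₁, hγ₂⟩ := H B B' π.toRingHom ε hπ hε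
        (fun m hm ↦ by rw [mul_comm]; exact hεm m hm)
        (Spec.map (CommRingCat.ofHom g.toRingHom) ≫ hV.fromSpec)
        (Spec.map (CommRingCat.ofHom (algebraMap R B')) ≫ hU.fromSpec) inferInstance
        (by
          rw [Category.assoc, ← IsAffineOpen.SpecMap_appLE_fromSpec f hU hV hVU,
            ← Spec.map_comp_assoc, ← Spec.map_comp_assoc]
          exact congrArg (Spec.map · ≫ hU.fromSpec) hcomm)
      have hrange : Set.range γ ⊆ Set.range hV.fromSpec := by
        rintro _ ⟨z, rfl⟩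
        have hmax : ∀ a : PrimeSpectrum B', a.asIdeal = maximalIdeal B' := fun a ↦ by
          haveI := a.isPrime
          exact IsLocalRing.eq_maximalIdeal (IsArtinianRing.isMaximal_of_isPrime a.asIdeal)
        haveI : Subsingleton ↥(Spec (CommRingCat.of B')) :=
          ⟨fun a b ↦ PrimeSpectrum.ext ((hmax a).trans (hmax b).symm)⟩
        obtain ⟨z₀, rfl⟩ : ∃ z₀, (Spec.map (CommRingCat.ofHom π.toRingHom)) z₀ = z :=
          ⟨IsLocalRing.closedPoint B, Subsingleton.elim _ _⟩
        rw [← Scheme.Hom.comp_apply, hγ₁]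
        exact ⟨_, rfl⟩
      obtain ⟨ψ, hψ⟩ := Spec.map_surjective (IsOpenImmersion.lift hV.fromSpec γ hrange)
      have hψ₁ : ψ ≫ CommRingCat.ofHom π.toRingHom = CommRingCat.ofHom g.toRingHom := by
        apply Spec.map_injective
        rw [Spec.map_comp, hψ, ← cancel_mono hV.fromSpec, Category.assoc,
          IsOpenImmersion.lift_fac, hγ₁]
      have hψ₂ : f.appLE U V hVU ≫ ψ = CommRingCat.ofHom (algebraMap R B') := by
        apply Spec.map_injective
        rw [Spec.map_comp, hψ, ← cancel_mono hU.fromSpec, Category.assoc,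
          IsAffineOpen.SpecMap_appLE_fromSpec f hU hV hVU, IsOpenImmersion.lift_fac_assoc, hγ₂]
      exact ⟨⟨ψ.hom, fun r ↦ congr($(hψ₂).hom r)⟩, AlgHom.ext fun s ↦ congr($(hψ₁).hom s)⟩
  exact ⟨inferInstance, inferInstance⟩

/-- Smooth morphisms lift along square-zero surjections. -/
theorem exists_lift_of_smooth (f : X ⟶ Y) [Smooth f] {B B' : Type u} [CommRing B] [CommRing B']
    (φ : B' →+* B) (hφ : Function.Surjective φ) (hsq : RingHom.ker φ ^ 2 = ⊥)
    (α : Spec (CommRingCat.of B) ⟶ X) (β : Spec (CommRingCat.of B') ⟶ Y)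
    (w : Spec.map (CommRingCat.ofHom φ) ≫ β = α ≫ f) :
    ∃ γ : Spec (CommRingCat.of B') ⟶ X,
      Spec.map (CommRingCat.ofHom φ) ≫ γ = α ∧ γ ≫ f = β := by
  let e : (B' ⧸ RingHom.ker φ) ≃+* B := RingHom.quotientKerEquivOfSurjective hφ
  let ι := Spec.map (CommRingCat.ofHom e.toRingHom)
  haveI : IsIso ι := by
    haveI : IsIso (CommRingCat.ofHom e.toRingHom) := e.toCommRingCatIso.isIso_hom
    exact inferInstanceAs (IsIso (Spec.map _))
  have hι : ι ≫ Spec.map (CommRingCat.ofHom (Ideal.Quotient.mk (RingHom.ker φ))) =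
      Spec.map (CommRingCat.ofHom φ) := by
    rw [← Spec.map_comp]
    exact congrArg Spec.map (CommRingCat.hom_ext (RingHom.ext fun b ↦
      RingHom.quotientKerEquivOfSurjective_apply_mk hφ b))
  obtain ⟨l, hl₁, hl₂⟩ := Formal.isFormallySmoothHom_of_smooth f B' (RingHom.ker φ) hsq
    (inv ι ≫ α) β (by rw [Category.assoc, IsIso.eq_inv_comp, reassoc_of% hι, w])
  exact ⟨l, by rw [← hι, Category.assoc, hl₁, IsIso.hom_inv_id_assoc], hl₂⟩

/-- The kernel of a small extension squares to zero. -/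
theorem ker_sq_eq_bot {B B' : Type u} [CommRing B] [CommRing B'] [IsLocalRing B'] [Nontrivial B]
    (φ : B' →+* B) (ε : B') (hk : RingHom.ker φ = Ideal.span {ε})
    (hm : ∀ m ∈ maximalIdeal B', ε * m = 0) : RingHom.ker φ ^ 2 = ⊥ := by
  rw [hk, Ideal.span_singleton_pow, Ideal.span_singleton_eq_bot, pow_two]
  exact hm ε (le_maximalIdeal (RingHom.ker_ne_top φ) (hk ▸ Ideal.mem_span_singleton_self ε))

/-- Smoothness is lifting along small extensions. -/
theorem smooth_iff (f : X ⟶ Y) [IsLocallyNoetherian Y] [LocallyOfFiniteType f] :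
    Smooth f ↔ ∀ (B B' : Type u) [CommRing B] [CommRing B'] [IsArtinianRing B] [IsArtinianRing B']
      [IsLocalRing B] [IsLocalRing B'] (φ : B' →+* B) (ε : B'), Function.Surjective φ →
      RingHom.ker φ = Ideal.span {ε} → (∀ m ∈ maximalIdeal B', ε * m = 0) →
      ∀ (α : Spec (CommRingCat.of B) ⟶ X) (β : Spec (CommRingCat.of B') ⟶ Y),
        LocallyOfFiniteType β → Spec.map (CommRingCat.ofHom φ) ≫ β = α ≫ f →
        ∃ γ : Spec (CommRingCat.of B') ⟶ X,
          Spec.map (CommRingCat.ofHom φ) ≫ γ = α ∧ γ ≫ f = β :=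
  ⟨fun _ _ _ _ _ _ _ _ _ φ ε hφ hk hm α β _ w ↦
      exists_lift_of_smooth f φ hφ (ker_sq_eq_bot φ ε hk hm) α β w, smooth_of_lifting f⟩

end Scheme

end Groth.Agent.Lib.SmoothLift.SmallExt
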