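import Groth.Agent.Lib.SmoothLift.SmallExt
import Groth.Agent.Lib.SmoothLift.Space
import Groth.Agent.Lib.AlgSpMor.LocP
import Groth.Prelude.Def_AlgSp4

/-!
# Smoothness of morphisms of algebraic spaces by lifting along small extensions
-/

set_option autoImplicit false
set_option linter.style.haveILetI false

universe u

open CategoryTheory CategoryTheory.Limits AlgebraicGeometry IsLocalRing
open Groth.Agent.Lib.AlgSpace Groth.Agent.Lib.AlgSpFormal Groth.Agent.Lib.AlgSpMor

namespace Groth.Agent.Lib.SmoothLift.SmallExtSp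

open AlgSp (Sp yon Representable RepWith IsAlgSpace LocP)
open AlgSp

variable {S : Scheme.{u}} {X Y : Sp S} {f : X ⟶ Y}

theorem exists_lift_of_smooth (hX : IsAlgSpace X) (hY : IsAlgSpace Y) (hf : LocP @Smooth f)
    {B B' : Type u} [CommRing B] [CommRing B'] (π : B' →+* B) (hπ : Function.Surjective π)
    (hsq : RingHom.ker π ^ 2 = ⊥) (s : Spec (CommRingCat.of B') ⟶ S)
    (α : (yon S).obj (Over.mk (Spec.map (CommRingCat.ofHom π) ≫ s)) ⟶ X)
    (β : (yon S).obj (Over.mk s) ⟶ Y)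
    (w : α ≫ f = (yon S).map
      (Over.homMk (Spec.map (CommRingCat.ofHom π)) :
        Over.mk (Spec.map (CommRingCat.ofHom π) ≫ s) ⟶ Over.mk s) ≫ β) :
    ∃ γ : (yon S).obj (Over.mk s) ⟶ X,
      (yon S).map (Over.homMk (Spec.map (CommRingCat.ofHom π)) :
        Over.mk (Spec.map (CommRingCat.ofHom π) ≫ s) ⟶ Over.mk s) ≫ γ = α ∧ γ ≫ f = β := by
  let g : Over.mk (Spec.map (CommRingCat.ofHom π) ≫ s) ⟶ Over.mk s :=
    Over.homMk (Spec.map (CommRingCat.ofHom π))
  haveI : IsClosedImmersion g.left :=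
    IsClosedImmersion.spec_of_surjective (CommRingCat.ofHom π) hπ
  haveI : IsAffine (Over.mk s).left := inferInstanceAs (IsAffine (Spec _))
  have hfs : IsFormallySmoothMor f :=
    (Space.formallySmooth_iff hX hY f).2 fun U V a b h ha hb e ↦ by
      haveI : Smooth h.left := hf a b h ha hb e
      exact Formal.isFormallySmoothHom_of_smooth h.left
  obtain ⟨sq, φ, hφ⟩ := Yon.exists_infSq f g (Yon.ker_appTop_specMap_sq _ hsq) α β w.symm
  obtain ⟨l, hl⟩ := hfs sq
  exact ⟨φ.symm l, (hφ _).2 (by rw [φ.apply_symm_apply]; exact hl)⟩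

theorem smooth_of_lifting (hX : IsAlgSpace X) (hY : IsAlgSpace Y) (hYn : IsLocNoethSp Y)
    (hft : LocP @LocallyOfFiniteType f)
    (H : ∀ (B' B : Type u) [CommRing B'] [CommRing B] [IsLocalRing B'] [IsLocalRing B]
      [IsArtinianRing B'] [IsArtinianRing B] (π : B' →+* B), Function.Surjective π →
      (∃ t : B', RingHom.ker π = Ideal.span {t} ∧ ∀ a ∈ maximalIdeal B', a * t = 0) →
      ∀ (s : Spec (CommRingCat.of B') ⟶ S)
        (α : (yon S).obj (Over.mk (Spec.map (CommRingCat.ofHom π) ≫ s)) ⟶ X)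
        (β : (yon S).obj (Over.mk s) ⟶ Y),
        LocP @LocallyOfFiniteType β →
        α ≫ f = (yon S).map
          (Over.homMk (Spec.map (CommRingCat.ofHom π)) :
            Over.mk (Spec.map (CommRingCat.ofHom π) ≫ s) ⟶ Over.mk s) ≫ β →
        ∃ γ : (yon S).obj (Over.mk s) ⟶ X,
          (yon S).map (Over.homMk (Spec.map (CommRingCat.ofHom π)) :
            Over.mk (Spec.map (CommRingCat.ofHom π) ≫ s) ⟶ Over.mk s) ≫ γ = α ∧
            γ ≫ f = β) :
    LocP @Smooth f := by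
  obtain ⟨V, b, hb, hbs, hV⟩ := hYn
  obtain ⟨U, a, h, ha, has, w⟩ := LocP.exists_chart_over hX hY f hb hbs
  refine LocP.locP_of_chart SourceDescent.Scheme.smooth hX.diag hY.diag ha has hb w ?_
  haveI : IsLocallyNoetherian V.left := hV
  haveI : LocallyOfFiniteType h.left := hft a b h ha hb w
  refine SmallExt.smooth_of_lifting h.left ?_
  intro B B' _ _ _ _ _ _ φ ε hφ hk hm α β hβ hw
  let s : Spec (CommRingCat.of B') ⟶ S := β ≫ V.hom
  let β' : Over.mk s ⟶ V := Over.homMk β
  let α' : Over.mk (Spec.map (CommRingCat.ofHom φ) ≫ s) ⟶ U := Over.homMk α (by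
    show α ≫ U.hom = Spec.map (CommRingCat.ofHom φ) ≫ β ≫ V.hom
    rw [← Category.assoc, hw, Category.assoc, Over.w h])
  let g : Over.mk (Spec.map (CommRingCat.ofHom φ) ≫ s) ⟶ Over.mk s :=
    Over.homMk (Spec.map (CommRingCat.ofHom φ))
  have hg : g ≫ β' = α' ≫ h := Over.OverMorphism.ext hw
  have hg' : (yon S).map g ≫ (yon S).map β' = (yon S).map α' ≫ (yon S).map h := by
    rw [← (yon S).map_comp g β', ← (yon S).map_comp α' h, hg]
  haveI : IsClosedImmersion g.left :=
    IsClosedImmersion.spec_of_surjective (CommRingCat.ofHom φ) hφ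
  haveI : IsAffine (Over.mk s).left := inferInstanceAs (IsAffine (Spec _))
  have hsq : RingHom.ker φ ^ 2 = ⊥ := SmallExt.ker_sq_eq_bot φ ε hk hm
  have hI := Yon.ker_appTop_specMap_sq (CommRingCat.ofHom φ) hsq
  have hid : RepWith @Etale (𝟙 ((yon S).obj (Over.mk s))) := by
    rw [← (yon S).map_id]
    exact (repWith_yon_map_iff _ _).2 (inferInstanceAs (Etale (𝟙 _)))
  have hids : RepWith @Surjective (𝟙 ((yon S).obj (Over.mk s))) := by
    rw [← (yon S).map_id]
    exact (repWith_yon_map_iff _ _).2 (inferInstanceAs (Surjective (𝟙 _)))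
  have hβl : LocP @LocallyOfFiniteType ((yon S).map β' ≫ b) :=
    LocP.locP_of_chart SourceDescent.Scheme.locallyOfFiniteType (IsAlgSpace.yon_obj _).diag
      hY.diag hid hids hb (h := β') (Category.id_comp _) hβ
  obtain ⟨γ, hγ₁, hγ₂⟩ := H B' B φ hφ ⟨ε, hk, fun m hm' ↦ by rw [mul_comm]; exact hm m hm'⟩ s
    ((yon S).map α' ≫ a) ((yon S).map β' ≫ b) hβl
    (by rw [Category.assoc ((yon S).map α'), w, ← Category.assoc ((yon S).map α'), ← hg',
      Category.assoc ((yon S).map g)])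
  obtain ⟨l, ⟨hl₁, hl₂⟩, -⟩ := Yon.lift_existsUnique_of_affine
    (Yon.isFormallyEtaleMor_of_etale ha) g hI ((yon S).map α') γ hγ₁
  obtain ⟨γ', rfl⟩ := (yon S).map_surjective l
  have hγh : (yon S).map γ' ≫ (yon S).map h = (yon S).map β' :=
    Yon.lift_unique_of_affine
      (Yon.formallyUnramified_of_formallyEtale (Yon.isFormallyEtaleMor_of_etale hb)) g hI _ _
      (by rw [← Category.assoc ((yon S).map g), hl₁, hg'])
      (by rw [Category.assoc ((yon S).map γ'), ← w, ← Category.assoc ((yon S).map γ'), hl₂, hγ₂])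
  rw [← (yon S).map_comp γ' h] at hγh
  rw [← (yon S).map_comp g γ'] at hl₁
  exact ⟨γ'.left, congrArg (fun k : _ ⟶ U ↦ k.left) ((yon S).map_injective hl₁),
    congrArg (fun k : _ ⟶ V ↦ k.left) ((yon S).map_injective hγh)⟩

end Groth.Agent.Lib.SmoothLift.SmallExtSp
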