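import Groth.Prelude.Def_Omega3
import Groth.Agent.Lib.Pure.ProjDescent
import Mathlib.RingTheory.Smooth.Basic
import Mathlib.Algebra.TrivSqZeroExt
import Mathlib.RingTheory.TensorProduct.Quotient

/-!
# Retractions of thickenings with projective conormal modules
-/

universe u

open TensorProduct

namespace Groth.Agent.Lib.SmoothLift.Algebra

/-- The conormal module of a section of a formally smooth algebra, seen in the universal
thickening, is projective. -/
theorem projective_ker_of_univ {B R E : Type u} [CommRing B] [CommRing R] [CommRing E]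
    [Algebra B R] [Algebra B E] [Algebra R E] [IsScalarTower B R E] [Algebra R B]
    [IsScalarTower B R B] [Algebra.FormallySmooth B R] (π : E →ₐ[R] B)
    (hu : OmegaSh.IsUnivThickeningRing R B E π) :
    Module.Projective B (LinearMap.ker (π.restrictScalars B).toLinearMap) := by
  obtain ⟨-, hk, hu⟩ := hu
  let K := LinearMap.ker (π.restrictScalars B).toLinearMap
  let F := ↥K →₀ B
  let p : F →ₗ[B] ↥K := Finsupp.linearCombination B id
  have hp : Function.Surjective p := fun k => ⟨Finsupp.single k 1, (Finsupp.linearCombination_single B 1 k).trans (one_smul B k)⟩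
  have hKK : ∀ x y : E, π x = 0 → π y = 0 → x * y = 0 := fun x y hx hy => by
    have h := Ideal.mul_mem_mul (I := RingHom.ker π.toRingHom) (J := RingHom.ker π.toRingHom) hx hy
    rwa [← pow_two, hk, Ideal.mem_bot] at h
  let C := TrivSqZeroExt B F
  let q : C →ₐ[B] E := TrivSqZeroExt.lift (Algebra.ofId B E)
    (K.subtype ∘ₗ p) (fun x y => hKK _ _ (p x).2 (p y).2) (fun r x => by simp [Algebra.smul_def])
    (fun r x => by simp [Algebra.smul_def, mul_comm])
  have hq : ∀ c : C, q c = algebraMap B E c.fst + p c.snd := fun c => rfl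
  have hπq : ∀ c : C, π (q c) = c.fst := fun c => by
    have h2 : π (p c.snd) = 0 := (p c.snd).2
    have h1 : π (algebraMap B E c.fst) = c.fst := (π.restrictScalars B).commutes c.fst
    rw [hq, map_add, h1, h2, add_zero]
  have hqs : Function.Surjective q := fun x => by
    have hx : x - algebraMap B E (π x) ∈ K := by
      change π (x - algebraMap B E (π x)) = 0
      rw [map_sub, show π (algebraMap B E (π x)) = π x from (π.restrictScalars B).commutes _, sub_self]
    obtain ⟨f, hf⟩ := hp ⟨_, hx⟩
    refine ⟨TrivSqZeroExt.inl (π x) + TrivSqZeroExt.inr f, ?_⟩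
    rw [hq]
    change algebraMap B E (π x + 0) + ((p (0 + f) : ↥K) : E) = x
    rw [add_zero, zero_add, hf]
    exact add_sub_cancel _ _
  have hqk : IsNilpotent (RingHom.ker q.toRingHom) := ⟨2, by
    rw [Submodule.pow_succ, Submodule.pow_one]
    refine eq_bot_iff.2 (Ideal.mul_le.2 ?_)
    intro x hx y hy
    have hfst : ∀ z : C, q z = 0 → z.fst = 0 := fun z hz => by rw [← hπq, hz, map_zero]
    refine Ideal.mem_bot.2 (TrivSqZeroExt.ext ?_ ?_)
    · rw [TrivSqZeroExt.fst_mul, hfst x hx, zero_mul]; rfl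
    · rw [TrivSqZeroExt.snd_mul, hfst x hx, hfst y hy, zero_smul, MulOpposite.op_zero, zero_smul, add_zero]; rfl⟩
  obtain ⟨θ, hθ⟩ : ∃ θ : R →ₐ[B] C, q.comp θ = IsScalarTower.toAlgHom B R E :=
    ⟨_, Algebra.FormallySmooth.comp_liftOfSurjective (IsScalarTower.toAlgHom B R E) q hqs hqk⟩
  letI := θ.toRingHom.toAlgebra
  have hθ' : ∀ r, q (algebraMap R C r) = algebraMap R E r := fun r => AlgHom.congr_fun hθ r
  let fst' : C →ₐ[R] B :=
    { (TrivSqZeroExt.fstHom B B F).toRingHom with
      commutes' := fun r => by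
        change (algebraMap R C r).fst = _
        rw [← hπq, hθ', π.commutes] }
  have hfs : Function.Surjective fst' := fun b => ⟨TrivSqZeroExt.inl b, rfl⟩
  have hJ : RingHom.ker fst' ^ 2 = ⊥ := by
    rw [pow_two, eq_bot_iff, Ideal.mul_le]
    intro x hx y hy
    have hx' : x.fst = 0 := hx
    have hy' : y.fst = 0 := hy
    refine Ideal.mem_bot.2 (TrivSqZeroExt.ext ?_ ?_)
    · rw [TrivSqZeroExt.fst_mul, hx', zero_mul]; rfl
    · rw [TrivSqZeroExt.snd_mul, hx', hy', zero_smul, MulOpposite.op_zero, zero_smul, add_zero]; rfl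
  let ε := Ideal.quotientKerAlgEquivOfSurjective hfs
  obtain ⟨a', ha', -⟩ := hu C (RingHom.ker fst') hJ ε.symm.toAlgHom
  have hfa : ∀ x, (a' x).fst = π x := fun x => by
    have h := congrArg ε (AlgHom.congr_fun ha' x)
    exact h.trans (ε.apply_symm_apply _)
  let q' : C →ₐ[R] E := { q.toRingHom with commutes' := hθ' }
  have hqa : q'.comp a' = AlgHom.id R E := by
    let J : Ideal E := RingHom.ker π
    have hπs : Function.Surjective π := fun b => ⟨algebraMap B E b, (π.restrictScalars B).commutes b⟩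
    let δ := Ideal.quotientKerAlgEquivOfSurjective hπs
    obtain ⟨b', -, hb'⟩ := hu E J hk δ.symm.toAlgHom
    have h : ∀ m : E →ₐ[R] E, (∀ x, π (m x) = π x) → m = b' := fun m hm => hb' m (AlgHom.ext fun x =>
      δ.injective ((hm x).trans (δ.apply_symm_apply _).symm))
    rw [h (q'.comp a') fun x => (hπq _).trans (hfa x), h (AlgHom.id R E) fun x => rfl]
  let g : ↥K →ₗ[B] F :=
    { toFun := fun k => (a' k).snd
      map_add' := fun x y => (congrArg TrivSqZeroExt.snd (map_add a' (x : E) y)).trans (TrivSqZeroExt.snd_add _ _)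
      map_smul' := fun b x => by
        change (a' (b • (x : E))).snd = b • (a' (x : E)).snd
        rw [show a' (b • (x : E)) = algebraMap R C (algebraMap B R b) * a' x by
          rw [← a'.commutes, ← map_mul, ← IsScalarTower.algebraMap_apply, ← Algebra.smul_def],
          show algebraMap R C (algebraMap B R b) = algebraMap B C b from θ.commutes b,
          ← Algebra.smul_def, TrivSqZeroExt.snd_smul] }
  refine Module.Projective.of_split g p (LinearMap.ext fun k => Subtype.ext ?_)
  have h := AlgHom.congr_fun hqa (k : E)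
  change q (a' (k : E)) = _ at h
  rw [hq, hfa, show π (k : E) = 0 from k.2, map_zero, zero_add] at h
  exact h

/-- Projectivity of the kernel of an augmentation descends along faithfully flat algebras. -/
theorem projective_ker_of_baseChange {A B E : Type u} [CommRing A] [CommRing B] [CommRing E]
    [Algebra A B] [Algebra A E] [Module.FaithfullyFlat A B] (π : E →ₐ[A] A)
    (π' : B ⊗[A] E →ₐ[B] B) (hπ' : ∀ x, π' (1 ⊗ₜ x) = algebraMap A B (π x))
    (h : Module.Projective B (LinearMap.ker π'.toLinearMap)) :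
    Module.Projective A (LinearMap.ker π.toLinearMap) := by
  let K := LinearMap.ker π.toLinearMap
  have hx : ∀ x : E, x - algebraMap A E (π x) ∈ K := fun x => by
    change π (x - algebraMap A E (π x)) = 0
    simp
  let r : E →ₗ[A] ↥K := (LinearMap.id - (Algebra.linearMap A E) ∘ₗ π.toLinearMap).codRestrict K hx
  have hπ'' : ∀ b x, π' (b ⊗ₜ x) = b * algebraMap A B (π x) := fun b x => by
    rw [← hπ', ← smul_eq_mul, ← map_smul, smul_tmul', smul_eq_mul, mul_one]
  have hmem : ∀ z, (K.subtype.baseChange B) z ∈ LinearMap.ker π'.toLinearMap := fun z => by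
    induction z using TensorProduct.induction_on with
    | zero => simp
    | add a b ha hb => rw [map_add]; exact add_mem ha hb
    | tmul b k =>
      have : π (k : E) = 0 := k.2
      simp [hπ'', this]
  let e₁ := (K.subtype.baseChange B).codRestrict _ hmem
  let e₂ : ↥(LinearMap.ker π'.toLinearMap) →ₗ[B] B ⊗[A] ↥K :=
    r.baseChange B ∘ₗ Submodule.subtype _
  have h₂₁ : ∀ z : B ⊗[A] E, K.subtype.baseChange B (r.baseChange B z) = z - (π' z) • (1 ⊗ₜ[A] (1 : E)) :=
    fun z => by
      induction z using TensorProduct.induction_on with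
      | zero => simp
      | add a b ha hb => rw [map_add, map_add, ha, hb, map_add, add_smul]; abel
      | tmul b x =>
        rw [LinearMap.baseChange_tmul, LinearMap.baseChange_tmul, hπ'']
        change b ⊗ₜ[A] (x - algebraMap A E (π x)) = _
        rw [tmul_sub]
        rw [Algebra.algebraMap_eq_smul_one, tmul_smul, smul_tmul', smul_tmul']
        simp [Algebra.smul_def, mul_comm]
  have key : ∀ z, e₂ (e₁ z) = z := fun z => by
    induction z using TensorProduct.induction_on with
    | zero => simp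
    | add a b ha hb => rw [map_add, map_add, ha, hb]
    | tmul b k =>
      have : π (k : E) = 0 := k.2
      change r.baseChange B (K.subtype.baseChange B (b ⊗ₜ k)) = _
      simp [r, this, LinearMap.codRestrict]
  have key' : ∀ z, e₁ (e₂ z) = z := fun z => Subtype.ext (by
    change K.subtype.baseChange B (r.baseChange B z.1) = z.1
    rw [h₂₁, show π' z.1 = 0 from z.2, zero_smul, sub_zero])
  let e : B ⊗[A] ↥K ≃ₗ[B] ↥(LinearMap.ker π'.toLinearMap) :=
    LinearEquiv.ofLinearMap e₁ e₂ (LinearMap.ext key') (LinearMap.ext key)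
  have : Module.Projective B (B ⊗[A] ↥K) := Module.Projective.of_equiv e.symm
  exact Groth.Agent.Lib.Pure.ProjDescent.projective_of_faithfullyFlat B

/-- A square-zero thickening with injective structure map and projective reduced conormal module
has a retraction. -/
theorem exists_retraction {A A₀ E E₀ : Type u} [CommRing A] [CommRing A₀] [CommRing E] [CommRing E₀]
    [Algebra A A₀] (hA : Function.Surjective (algebraMap A A₀))
    [Algebra A E] [Algebra A E₀] [Algebra A₀ E₀] [IsScalarTower A A₀ E₀]
    (hinj : Function.Injective (algebraMap A E)) (π : E →ₐ[A] A₀)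
    (hsq : RingHom.ker π.toRingHom ^ 2 = ⊥) (red : E →ₐ[A] E₀) (hred : Function.Surjective red)
    (hker : RingHom.ker red.toRingHom ≤ (RingHom.ker (algebraMap A A₀)).map (algebraMap A E))
    (π₀ : E₀ →ₐ[A₀] A₀) (hπ₀ : ∀ x, π₀ (red x) = π x)
    (hproj : Module.Projective A₀ (LinearMap.ker π₀.toLinearMap)) :
    ∃ r : E →ₐ[A] A, ∀ x, algebraMap A A₀ (r x) = π x := by
  let I : Ideal A := RingHom.ker (algebraMap A A₀)
  let K := LinearMap.ker π.toLinearMap
  let K₀ := LinearMap.ker π₀.toLinearMap
  have hKK : ∀ x y : E, π x = 0 → π y = 0 → x * y = 0 := fun x y hx hy => by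
    have h := Ideal.mul_mem_mul (I := RingHom.ker π.toRingHom) (J := RingHom.ker π.toRingHom) hx hy
    rwa [← pow_two, hsq, Ideal.mem_bot] at h
  have hI : ∀ i ∈ I, π (algebraMap A E i) = 0 := fun i hi => by
    rw [π.commutes]; exact RingHom.mem_ker.1 hi
  have hπs : ∀ x : E, ∃ a, π (algebraMap A E a) = π x := fun x => by
    obtain ⟨a, ha⟩ := hA (π x)
    exact ⟨a, by rw [π.commutes]; exact ha⟩
  have hIE : ∀ z ∈ I.map (algebraMap A E), ∃ i ∈ I, algebraMap A E i = z := fun z hz => by
    induction hz using Submodule.span_induction with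
    | mem z h => obtain ⟨i, hi, rfl⟩ := h; exact ⟨i, hi, rfl⟩
    | zero => exact ⟨0, I.zero_mem, map_zero _⟩
    | add x y _ _ hx hy =>
      obtain ⟨i, hi, rfl⟩ := hx; obtain ⟨j, hj, rfl⟩ := hy
      exact ⟨i + j, I.add_mem hi hj, map_add _ _ _⟩
    | smul c x _ hx =>
      obtain ⟨i, hi, rfl⟩ := hx
      obtain ⟨a, ha⟩ := hπs c
      refine ⟨a * i, I.mul_mem_left _ hi, ?_⟩
      have := hKK (c - algebraMap A E a) (algebraMap A E i) (by rw [map_sub, ha, sub_self]) (hI i hi)
      rw [sub_mul, sub_eq_zero] at this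
      rw [smul_eq_mul, map_mul, this]
  have htor : Module.IsTorsionBySet A ↥K I := by
    rintro ⟨k, hk⟩ ⟨i, hi⟩
    refine Subtype.ext ?_
    change i • k = 0
    rw [Algebra.smul_def]
    exact hKK _ _ (hI i hi) hk
  letI : Module (A ⧸ I) ↥K := htor.module
  let ε := RingHom.quotientKerEquivOfSurjective hA
  letI : Module A₀ ↥K := Module.compHom ↥K ε.symm.toRingHom
  have hsmul : ∀ (a : A) (k : ↥K), algebraMap A A₀ a • k = a • k := fun a k => by
    change ε.symm (algebraMap A A₀ a) • k = a • k
    rw [show ε.symm (algebraMap A A₀ a) = Ideal.Quotient.mk I a from ε.symm_apply_eq.2 rfl]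
    rfl
  have hrK : ∀ k : ↥K, red k ∈ K₀ := fun k => by
    change π₀ (red k) = 0
    rw [hπ₀]; exact k.2
  let f : ↥K →ₗ[A₀] ↥K₀ :=
    { toFun := fun k => ⟨red k, hrK k⟩
      map_add' := fun x y => Subtype.ext (map_add _ _ _)
      map_smul' := fun c x => by
        obtain ⟨a, rfl⟩ := hA c
        refine Subtype.ext ?_
        rw [hsmul]
        change red (a • (x : E)) = algebraMap A A₀ a • red (x : E)
        rw [map_smul]
        exact (algebraMap_smul A₀ a _).symm }
  have hf : Function.Surjective f := fun z => by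
    obtain ⟨x, hx⟩ := hred z.1
    refine ⟨⟨x, ?_⟩, Subtype.ext hx⟩
    change π x = 0
    rw [← hπ₀, hx]; exact z.2
  obtain ⟨g, hg⟩ := Module.projective_lifting_property f LinearMap.id hf
  have hp : ∀ x : E, red x - algebraMap A₀ E₀ (π x) ∈ K₀ := fun x => by
    change π₀ _ = 0
    rw [map_sub, hπ₀, π₀.commutes]; simp
  let ρ : E → E := fun x => x - (g ⟨_, hp x⟩ : E)
  have hga : ∀ (c : A₀) (z : ↥K₀) (w : E), π w = c → (g (c • z) : E) = w * (g z : E) := by
    intro c z w hw
    obtain ⟨a, rfl⟩ := hA c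
    rw [map_smul, hsmul]
    change a • (g z : E) = _
    rw [Algebra.smul_def, eq_comm, ← sub_eq_zero, ← sub_mul]
    exact hKK _ _ (by rw [map_sub, hw, π.commutes]; exact sub_self _) (g z).2
  have hρ : ∀ x, ∃ a, algebraMap A E a = ρ x := fun x => by
    obtain ⟨a, ha⟩ := hπs x
    have h1 : red (ρ x) = algebraMap A₀ E₀ (π x) := by
      have := congrArg Subtype.val (LinearMap.congr_fun hg ⟨_, hp x⟩)
      rw [map_sub]
      exact (congrArg (red x - ·) this).trans (sub_sub_cancel _ _)
    have h2 : red (ρ x - algebraMap A E a) = 0 := by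
      rw [map_sub, h1, red.commutes, ← ha, π.commutes, ← IsScalarTower.algebraMap_apply, sub_self]
    obtain ⟨i, -, hi⟩ := hIE _ (hker h2)
    exact ⟨i + a, by rw [map_add, hi, sub_add_cancel]⟩
  choose r hr using hρ
  have hmul : ∀ x y, ρ (x * y) = ρ x * ρ y := fun x y => by
    have hk : ∀ z : ↥K₀, ∀ z' : ↥K₀, (z : E₀) * z' = 0 := fun z z' => by
      obtain ⟨u, rfl⟩ := hf z; obtain ⟨v, rfl⟩ := hf z'
      change red u * red v = 0
      rw [← map_mul, hKK _ _ u.2 v.2, map_zero]
    have e : (⟨_, hp (x * y)⟩ : ↥K₀) = π x • ⟨_, hp y⟩ + π y • ⟨_, hp x⟩ := by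
      refine Subtype.ext ?_
      have h := hk ⟨_, hp x⟩ ⟨_, hp y⟩
      simp only [Submodule.coe_add, Submodule.coe_smul, Algebra.smul_def, map_mul] at h ⊢
      linear_combination h
    simp only [ρ, e, map_add, Submodule.coe_add, hga _ _ x rfl, hga _ _ y rfl]
    linear_combination -(hKK _ _ (g ⟨_, hp x⟩).2 (g ⟨_, hp y⟩).2)
  have hcomm : ∀ a, ρ (algebraMap A E a) = algebraMap A E a := fun a => by
    have e : (⟨_, hp (algebraMap A E a)⟩ : ↥K₀) = 0 := Subtype.ext (by
      change red (algebraMap A E a) - algebraMap A₀ E₀ (π (algebraMap A E a)) = 0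
      rw [red.commutes, π.commutes, ← IsScalarTower.algebraMap_apply, sub_self])
    change algebraMap A E a - (g ⟨_, hp (algebraMap A E a)⟩ : E) = _
    rw [e, map_zero]
    simp
  have hadd : ∀ x y, ρ (x + y) = ρ x + ρ y := fun x y => by
    have e : (⟨_, hp (x + y)⟩ : ↥K₀) = ⟨_, hp x⟩ + ⟨_, hp y⟩ :=
      Subtype.ext (by simp; ring)
    change x + y - (g ⟨_, hp (x + y)⟩ : E) = x - (g ⟨_, hp x⟩ : E) + (y - (g ⟨_, hp y⟩ : E))
    rw [e, map_add, Submodule.coe_add]
    ring
  let r' : E →ₐ[A] A :=
    { toFun := r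
      map_one' := hinj (by rw [hr, map_one]; simpa using hcomm 1)
      map_mul' := fun x y => hinj (by rw [hr, map_mul, hr, hr, hmul])
      map_zero' := hinj (by rw [hr, map_zero]; simpa using hcomm 0)
      map_add' := fun x y => hinj (by rw [hr, map_add, hr, hr, hadd])
      commutes' := fun a => hinj (by rw [hr, hcomm]; rfl) }
  refine ⟨r', fun x => ?_⟩
  have h := congrArg π (hr x)
  rw [π.commutes, map_sub, show π (g ⟨_, hp x⟩ : E) = 0 from (g ⟨_, hp x⟩).2, sub_zero] at h
  exact h

end Groth.Agent.Lib.SmoothLift.Algebra
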