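import Groth.Agent.Lib.UnivThick.Affine

/-!
# Universal thickenings of affine schemes as universal thickenings of rings
-/

universe u

open CategoryTheory CategoryTheory.Limits AlgebraicGeometry Opposite AlgSp
open Groth.Agent.Lib.AlgSpFormal

namespace Groth.Agent.Lib.SmoothLift.Conv

variable {S : Scheme.{u}}

/-- A universal thickening between affine schemes gives one of rings. -/
theorem ring_univ {O Q O' : Over S} [IsAffine O.left] [IsAffine Q.left] [IsAffine O'.left]
    (ψ : O ⟶ Q) (i : O ⟶ O') (g : O' ⟶ Q)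
    (HU : IsUnivFOThick ((yon S).map ψ) ((yon S).map i) ((yon S).map g))
    {R B E : Type u} [CommRing R] [CommRing B] [CommRing E] [Algebra R B] [Algebra R E]
    (eR : Γ(Q.left, ⊤) ≅ CommRingCat.of R) (eB : Γ(O.left, ⊤) ≅ CommRingCat.of B)
    (eE : Γ(O'.left, ⊤) ≅ CommRingCat.of E) (π : E →ₐ[R] B)
    (hψ : eR.hom ≫ CommRingCat.ofHom (algebraMap R B) = ψ.left.appTop ≫ eB.hom)
    (hg : eR.hom ≫ CommRingCat.ofHom (algebraMap R E) = g.left.appTop ≫ eE.hom)
    (hi : eE.hom ≫ CommRingCat.ofHom π.toRingHom = i.left.appTop ≫ eB.hom) :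
    OmegaSh.IsUnivThickeningRing R B E π := by
  have : IsClosedImmersion i.left := ((isThickMor_yon_map_iff i).1 HU.1.1).1
  have his : Function.Surjective i.left.appTop.hom := i.left.app_surjective ⊤ (isAffineOpen_top _)
  have hik := Yon.ker_appTop_sq_of_ker_mul_ker i.left (AffLocT.yon_map ‹_› HU.1.2)
  have hπ : ∀ x, π x = eB.hom.hom (i.left.appTop.hom (eE.inv.hom x)) := fun x => by
    have h := congrArg (fun f => f.hom (eE.inv.hom x)) hi
    simp only [CommRingCat.hom_comp, RingHom.comp_apply] at h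
    rw [← h, ← RingHom.comp_apply eE.hom.hom, ← CommRingCat.hom_comp, eE.inv_hom_id]
    rfl
  have hEinj : Function.Injective eE.inv.hom := (ConcreteCategory.bijective_of_isIso eE.inv).1
  have hBinj : Function.Injective eB.hom.hom := (ConcreteCategory.bijective_of_isIso eB.hom).1
  refine ⟨fun b => ?_, ?_, ?_⟩
  · obtain ⟨c, rfl⟩ := (ConcreteCategory.bijective_of_isIso eB.hom).2 b
    obtain ⟨d, rfl⟩ := his c
    refine ⟨eE.hom.hom d, ?_⟩
    rw [hπ, ← RingHom.comp_apply eE.inv.hom, ← CommRingCat.hom_comp, eE.hom_inv_id]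
    rfl
  · rw [pow_two, eq_bot_iff, Ideal.mul_le]
    intro x hx y hy
    have hm : ∀ z ∈ RingHom.ker π.toRingHom, eE.inv.hom z ∈ RingHom.ker i.left.appTop.hom :=
      fun z hz => RingHom.mem_ker.2 ((map_eq_zero_iff _ hBinj).1 ((hπ z).symm.trans hz))
    have h := Ideal.mul_mem_mul (hm x hx) (hm y hy)
    rw [← pow_two, hik, Ideal.mem_bot, ← map_mul] at h
    exact Ideal.mem_bot.2 ((map_eq_zero_iff _ hEinj).1 h)
  intro C _ _ J hJ ā
  let G := Scheme.ΓSpecIso (CommRingCat.of C)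
  let G₀ := Scheme.ΓSpecIso (CommRingCat.of (C ⧸ J))
  obtain ⟨c, hc⟩ := UnivThick.Affine.exists_hom_appTop (T := Spec (CommRingCat.of C)) (Y := Q.left)
    (eR.hom ≫ CommRingCat.ofHom (algebraMap R C) ≫ G.inv)
  let μ := CommRingCat.ofHom (Ideal.Quotient.mk J)
  obtain ⟨a₀, ha₀⟩ := UnivThick.Affine.exists_hom_appTop (T := Spec (CommRingCat.of (C ⧸ J)))
    (Y := O.left) (eB.hom ≫ CommRingCat.ofHom ā.toRingHom ≫ G₀.inv)
  have hμ : (Spec.map μ).appTop = G.hom ≫ μ ≫ G₀.inv := by
    rw [← Scheme.ΓSpecIso_naturality_assoc, Iso.hom_inv_id, Category.comp_id]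
  have hac : a₀ ≫ ψ.left = Spec.map μ ≫ c := ext_of_isAffine (by
    rw [Scheme.Hom.comp_appTop, Scheme.Hom.comp_appTop, ha₀, hc, hμ, ← reassoc_of% hψ]
    simp only [Category.assoc, Iso.inv_hom_id_assoc]
    congr 1
    ext x
    change G₀.inv.hom (ā (algebraMap R B x)) = G₀.inv.hom (Ideal.Quotient.mk J (algebraMap R C x))
    rw [ā.commutes]
    rfl)
  let T' : Over S := Over.mk (c ≫ Q.hom)
  let T : Over S := Over.mk (Spec.map μ ≫ c ≫ Q.hom)
  let j : T ⟶ T' := Over.homMk (Spec.map μ) rfl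
  let a : T ⟶ O := Over.homMk a₀ (by
    change a₀ ≫ O.hom = Spec.map μ ≫ c ≫ Q.hom
    rw [← Over.w ψ, reassoc_of% hac])
  let b : T' ⟶ Q := Over.homMk c rfl
  have : IsAffine T'.left := inferInstanceAs (IsAffine (Spec _))
  have : IsClosedImmersion j.left := IsClosedImmersion.spec_of_surjective _ Ideal.Quotient.mk_surjective
  have hj : IsFOThickMor ((yon S).map j) :=
    Yon.isFOThickMor_yon_map j (Yon.ker_appTop_specMap_sq μ (by simpa [μ] using hJ))
  have hab : j ≫ b = a ≫ ψ := by ext : 1; exact hac.symm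
  obtain ⟨ly, ⟨hl₁, hl₂⟩, hlu⟩ := HU.2.2 (IsAlgSpace.yon_obj T) (IsAlgSpace.yon_obj T')
    ((yon S).map j) ((yon S).map a) ((yon S).map b) hj (by rw [← Functor.map_comp, hab, Functor.map_comp])
  obtain ⟨l, rfl⟩ := (yon S).map_surjective ly
  have hl₁' : j.left ≫ l.left = a₀ ≫ i.left := congrArg (fun m : T ⟶ O' => m.left)
    ((yon S).map_injective (by simpa using hl₁) : j ≫ l = a ≫ i)
  have hl₂' : l.left ≫ g.left = c := congrArg (fun m : T' ⟶ Q => m.left)
    ((yon S).map_injective (by simpa using hl₂) : l ≫ g = b)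
  have hfac : ∀ (m : Spec (CommRingCat.of C) ⟶ O'.left) (φ : E →+* C),
      m.appTop = eE.hom ≫ CommRingCat.ofHom φ ≫ G.inv →
      (m ≫ g.left = c ↔ ∀ r, φ (algebraMap R E r) = algebraMap R C r) ∧
      (Spec.map μ ≫ m = a₀ ≫ i.left ↔ ∀ x, Ideal.Quotient.mk J (φ x) = ā (π x)) := by
    intro m φ hm
    have hGi : Function.Injective G.inv.hom := (ConcreteCategory.bijective_of_isIso G.inv).1
    have hG₀i : Function.Injective G₀.inv.hom := (ConcreteCategory.bijective_of_isIso G₀.inv).1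
    have hRs : Function.Surjective eR.hom.hom := (ConcreteCategory.bijective_of_isIso eR.hom).2
    have hEs : Function.Surjective eE.hom.hom := (ConcreteCategory.bijective_of_isIso eE.hom).2
    have e₁ : (m ≫ g.left).appTop = eR.hom ≫ CommRingCat.ofHom (φ.comp (algebraMap R E)) ≫ G.inv := by
      rw [Scheme.Hom.comp_appTop, hm, ← reassoc_of% hg]
      rfl
    have e₂ : (Spec.map μ ≫ m).appTop =
        eE.hom ≫ CommRingCat.ofHom ((Ideal.Quotient.mk J).comp φ) ≫ G₀.inv := by
      rw [Scheme.Hom.comp_appTop, hm, hμ]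
      simp only [Category.assoc, Iso.inv_hom_id_assoc]
      rfl
    have e₃ : (a₀ ≫ i.left).appTop =
        eE.hom ≫ CommRingCat.ofHom (ā.toRingHom.comp π.toRingHom) ≫ G₀.inv := by
      rw [Scheme.Hom.comp_appTop, ha₀, ← reassoc_of% hi]
      rfl
    constructor
    · constructor
      · intro h r
        obtain ⟨r', rfl⟩ := hRs r
        have h' := congrArg (fun f => f.hom r') (e₁.symm.trans ((congrArg Scheme.Hom.appTop h).trans hc))
        exact hGi h'
      · intro h
        refine ext_of_isAffine ?_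
        rw [e₁, hc]
        congr 2
        ext x
        exact h x
    · constructor
      · intro h x
        obtain ⟨x', rfl⟩ := hEs x
        have h' := congrArg (fun f => f.hom x') (e₂.symm.trans ((congrArg Scheme.Hom.appTop h).trans e₃))
        exact hG₀i h'
      · intro h
        refine ext_of_isAffine ?_
        rw [e₂, e₃]
        congr 2
        ext x
        exact h x
  have hlφ : l.left.appTop = eE.hom ≫ CommRingCat.ofHom (eE.inv ≫ l.left.appTop ≫ G.hom).hom ≫ G.inv := by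
    simp
  obtain ⟨hφ₁, hφ₂⟩ := hfac l.left _ hlφ
  let a' : E →ₐ[R] C := { (eE.inv ≫ l.left.appTop ≫ G.hom).hom with commutes' := hφ₁.1 hl₂' }
  refine ⟨a', AlgHom.ext (hφ₂.1 hl₁'), fun b' hb' => ?_⟩
  obtain ⟨m₀, hm₀⟩ := UnivThick.Affine.exists_hom_appTop (T := Spec (CommRingCat.of C)) (Y := O'.left)
    (eE.hom ≫ CommRingCat.ofHom b'.toRingHom ≫ G.inv)
  obtain ⟨hψ₁, hψ₂⟩ := hfac m₀ b'.toRingHom hm₀
  have hm₂ : m₀ ≫ g.left = c := hψ₁.2 b'.commutes
  let m : T' ⟶ O' := Over.homMk m₀ (by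
    change m₀ ≫ O'.hom = c ≫ Q.hom
    rw [← Over.w g, reassoc_of% hm₂])
  have hm₁ : j ≫ m = a ≫ i := by
    ext : 1
    exact hψ₂.2 fun x => AlgHom.congr_fun hb' x
  have hm₂' : m ≫ g = b := by ext : 1; exact hm₂
  have hml : m = l := (yon S).map_injective (hlu _
    ⟨by rw [← Functor.map_comp, hm₁, Functor.map_comp], by rw [← Functor.map_comp, hm₂']⟩)
  have e := hm₀.symm.trans ((congrArg (fun f : T' ⟶ O' => f.left.appTop) hml).trans hlφ)
  refine AlgHom.ext fun x => ?_
  obtain ⟨x', rfl⟩ := (ConcreteCategory.bijective_of_isIso eE.hom).2 x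
  exact (ConcreteCategory.bijective_of_isIso G.inv).1 (congrArg (fun f => f.hom x') e)

end Groth.Agent.Lib.SmoothLift.Conv
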