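import Groth.Agent.Lib.UnivThick.Exists
import Groth.Agent.Lib.AlgSpMor.RepDescent
import Groth.Agent.Lib.AlgSpace.OpenSub

/-!
# Affine etale charts around a map from a closed subscheme of an affine scheme
-/

universe u

open CategoryTheory CategoryTheory.Limits AlgebraicGeometry Opposite AlgSp
open Groth.Agent.Lib.AlgSpFormal

namespace Groth.Agent.Lib.SmoothLift.Data

variable {S : Scheme.{u}}

/-- An affine etale neighbourhood of the closed subscheme over which the map lifts to an affine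
etale chart. -/
theorem exists_chart_data_of_opens {T₀ T' : Over S} (j : T₀ ⟶ T') [IsClosedImmersion j.left]
    [Surjective j.left] [IsAffine T'.left] (hI : RingHom.ker j.left.appTop.hom ^ 2 = ⊥)
    {W : Sp S} {U₁ : Over S} (p₁ : (yon S).obj U₁ ⟶ W) (hp₁ : RepWith @Etale p₁)
    (hp₁s : RepWith @Surjective p₁) (a : (yon S).obj T₀ ⟶ W) (Q : U₁.left.Opens → Prop)
    (hQ : ∀ u, ∃ O : U₁.left.Opens, IsAffineOpen O ∧ u ∈ O ∧ Q O) :
    ∃ (ι : Type u) (_ : Finite ι) (O : ι → U₁.left.Opens) (B P : Over S) (b : B ⟶ T') (p : P ⟶ T₀)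
      (r : P ⟶ B) (n : P ⟶ AlgSpace.opensSigma O),
      (∀ i, IsAffineOpen (O i) ∧ Q (O i)) ∧ IsAffine B.left ∧ Etale b.left ∧ Surjective b.left ∧
      IsPullback p r j b ∧
      (yon S).map n ≫ (yon S).map (AlgSpace.opensSigmaMap O) ≫ p₁ = (yon S).map p ≫ a := by
  have loc : ∀ x : ↥T'.left, ∃ (O : U₁.left.Opens) (B P : Over S) (g : B ⟶ T') (p : P ⟶ T₀)
      (q : P ⟶ B) (n : (yon S).obj P ⟶ (yon S).obj (Over.mk (O.ι ≫ U₁.hom))),
      (IsAffineOpen O ∧ Q O) ∧ IsAffine B.left ∧ Etale g.left ∧ IsPullback p q j g ∧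
      x ∈ Set.range g.left ∧
      n ≫ (yon S).map (Over.homMk O.ι rfl : Over.mk (O.ι ≫ U₁.hom) ⟶ U₁) ≫ p₁ =
        (yon S).map p ≫ a := by
    intro x
    obtain ⟨t₀, rfl⟩ := j.left.surjective x
    obtain ⟨u, hu⟩ := AlgSpace.surjective_ofPt hp₁s (Points.ofPt a t₀)
    obtain ⟨O, hO, huO, hOQ⟩ := hQ u
    let OS : Over S := Over.mk (Scheme.Opens.ι O ≫ U₁.hom)
    let cO : (yon S).obj OS ⟶ W := (yon S).map (Over.homMk (Scheme.Opens.ι O) rfl : OS ⟶ U₁) ≫ p₁
    have hcO : RepWith @Etale cO :=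
      AlgSpace.repWith_yon_map_comp (inferInstanceAs (Etale (Scheme.Opens.ι O))) hp₁
    have sqV := hcO.1.isPullback a
    have : Etale (hcO.1.snd a).left := hcO.2 a _ _ sqV
    have hcu : Points.ofPt cO ⟨u, huO⟩ = Points.ofPt a t₀ := by
      rw [← hu]; exact AlgSpace.ofPt_yon_map_comp _ _ _
    obtain ⟨f, hf⟩ := (yon S).map_surjective (hcO.1.fst a)
    rw [← hf] at sqV
    obtain ⟨w, -, hw⟩ := (AlgSpace.ofPt_eq_ofPt_iff_of_isPullback sqV ⟨u, huO⟩ t₀).1 hcu
    obtain ⟨B, g, P, p, q, m, hB, hg, sqP, -, hmp, ⟨z, hz⟩⟩ :=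
      UnivEtale.exists_exact_over j hI (hcO.1.snd a) w
    refine ⟨O, B, P, g, p, q, (yon S).map (m ≫ f), ⟨hO, hOQ⟩, hB, hg, sqP, ⟨q.left z, ?_⟩, ?_⟩
    · have e₁ : q ≫ g = p ≫ j := sqP.w.symm
      have e₂ : p.left z = t₀ := by
        rw [← hmp, Over.comp_left, Scheme.Hom.comp_apply, hz, hw]
      rw [← e₂]
      exact congrArg (fun m : P ⟶ T' => m.left z) e₁
    · rw [Functor.map_comp, Category.assoc, sqV.w, ← Functor.map_comp_assoc, hmp]
  choose O B P g p q n hO hB hg sq hx hn using loc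
  have hopen : ∀ x, IsOpen (Set.range (g x).left) := fun x => by
    have := hg x
    exact (g x).left.isOpenMap.isOpen_range
  obtain ⟨s, hs⟩ := isCompact_univ.elim_finite_subcover (fun x => Set.range (g x).left) hopen
    (fun x _ => Set.mem_iUnion.2 ⟨x, hx x⟩)
  let O' : ↥s → U₁.left.Opens := fun x => O x
  let B' : ↥s → Over S := fun x => B x
  have : ∀ i, IsAffine (O' i).toScheme := fun i => (hO i).1
  have : ∀ i : ↥s, IsAffine (B' i).left := fun i => hB i
  obtain ⟨by', G, b, hb, hpb, sqy⟩ := AlgSpMor.RepDescent.exists_isPullback_sigma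
    (W := B') (w := fun i : ↥s => g i) (g := fun i : ↥s => q i)
    (c := fun i : ↥s => (yon S).map (p i)) (f := (yon S).map j)
    (fun i => AlgSpace.isPullback_yon (sq i))
  obtain ⟨pp, rfl⟩ := (yon S).map_surjective by'
  obtain ⟨my, hmy, -⟩ := AlgSpace.existsUnique_sigmaOver_desc (fun i : ↥s => P i)
    (F := (yon S).obj (AlgSpace.opensSigma O')) fun i => n i ≫
      (yon S).map (Over.homMk (Sigma.ι (fun i => (O' i).toScheme) i) (by simp) :
        Over.mk ((O' i).ι ≫ U₁.hom) ⟶ AlgSpace.opensSigma O')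
  obtain ⟨nn, rfl⟩ := (yon S).map_surjective my
  have hr : HasRingHomProperty (@Etale : MorphismProperty Scheme.{u}) RingHom.Etale := inferInstance
  have : IsZariskiLocalAtSource (@Etale : MorphismProperty Scheme.{u}) :=
    @HasRingHomProperty.instIsZariskiLocalAtSource _ _ hr
  refine ⟨↥s, inferInstance, O', AlgSpace.sigmaOver B', _, b, pp, G, nn, fun i => hO i,
    inferInstanceAs (IsAffine (∐ fun i => (B' i).left)), ?_, ⟨fun x => ?_⟩,
    AlgSpace.isPullback_of_yon_map sqy, ?_⟩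
  · have e : b.left = Sigma.desc fun i : ↥s => (g i).left := Sigma.hom_ext _ _ fun i => by
      rw [Sigma.ι_desc]
      exact congrArg (fun m : B' i ⟶ T' => m.left) (hb i)
    rw [e]
    exact IsZariskiLocalAtSource.sigmaDesc (P := @Etale) fun i => hg i
  · obtain ⟨i, hi, y, hy⟩ := Set.mem_iUnion₂.1 (hs (Set.mem_univ x))
    refine ⟨(AlgSpace.sigmaOverι B' ⟨i, hi⟩).left y, ?_⟩
    rw [← hy]
    exact congrArg (fun m : B' ⟨i, hi⟩ ⟶ T' => m.left y) (hb ⟨i, hi⟩)
  · have hpp : ∀ i : ↥s, AlgSpace.sigmaOverι (fun i : ↥s => P i) i ≫ pp ≫ j =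
        AlgSpace.sigmaOverι (fun i : ↥s => P i) i ≫ G ≫ b := fun i => by
      rw [(AlgSpace.isPullback_of_yon_map sqy).w]
    refine (AlgSpace.existsUnique_sigmaOver_desc (fun i : ↥s => P i) (fun i => (yon S).map (p i) ≫ a)).unique
      (fun i => ?_) fun i => ?_
    · rw [reassoc_of% hmy i, ← Functor.map_comp_assoc]
      have e : (Over.homMk (Sigma.ι (fun i => (O' i).toScheme) i) (by simp) :
          Over.mk ((O' i).ι ≫ U₁.hom) ⟶ AlgSpace.opensSigma O') ≫ AlgSpace.opensSigmaMap O' =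
          Over.homMk (O' i).ι rfl := by
        ext : 1
        exact Sigma.ι_desc (fun i => (O' i).ι) i
      rw [e]
      exact hn i
    · have : Mono j := (Over.forget S).mono_of_mono_map (inferInstanceAs (Mono j.left))
      have hp' : AlgSpace.sigmaOverι (fun i : ↥s => P i) i ≫ pp = p i := by
        rw [← cancel_mono j, Category.assoc, hpp i, (sq i).w]
        ext : 1
        have e₁ := (hpb i).w
        have e₂ : (AlgSpace.sigmaOverι B' i).left ≫ b.left = (g i).left :=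
          congrArg (fun m : B' i ⟶ T' => m.left) (hb i)
        simp only [Over.comp_left]
        rw [reassoc_of% e₁, e₂]
      rw [← Functor.map_comp_assoc, hp']

/-- An affine etale neighbourhood of the closed subscheme over which the map lifts to an affine
etale chart. -/
theorem exists_chart_data {T₀ T' : Over S} (j : T₀ ⟶ T') [IsClosedImmersion j.left]
    [Surjective j.left] [IsAffine T'.left] (hI : RingHom.ker j.left.appTop.hom ^ 2 = ⊥)
    {W : Sp S} {U₁ : Over S} (p₁ : (yon S).obj U₁ ⟶ W) (hp₁ : RepWith @Etale p₁)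
    (hp₁s : RepWith @Surjective p₁) (a : (yon S).obj T₀ ⟶ W) :
    ∃ (B U P : Over S) (b : B ⟶ T') (p : P ⟶ T₀) (r : P ⟶ B) (k : U ⟶ U₁) (n : P ⟶ U),
      IsAffine B.left ∧ IsAffine U.left ∧ Etale b.left ∧ Surjective b.left ∧ IsPullback p r j b ∧
      Etale k.left ∧ (yon S).map n ≫ (yon S).map k ≫ p₁ = (yon S).map p ≫ a := by
  obtain ⟨ι, _, O, B, P, b, p, r, n, hO, hB, hb, hbs, sq, hn⟩ :=
    exists_chart_data_of_opens j hI p₁ hp₁ hp₁s a (fun _ => True) fun u => by
      obtain ⟨_, ⟨O, hO, rfl⟩, huO, -⟩ := U₁.left.isBasis_affineOpens.exists_subset_of_mem_open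
        (Set.mem_univ u) isOpen_univ
      exact ⟨O, hO, huO, trivial⟩
  have : ∀ i, IsAffine (O i).toScheme := fun i => (hO i).1
  exact ⟨B, AlgSpace.opensSigma O, P, b, p, r, AlgSpace.opensSigmaMap O, n, hB,
    inferInstanceAs (IsAffine (∐ fun i => (O i).toScheme)), hb, hbs, sq,
    AlgSpace.etale_opensSigmaMap O, hn⟩

end Groth.Agent.Lib.SmoothLift.Data
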