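import Groth.Agent.Lib.SmoothLift.NilLift
import Groth.Agent.Lib.AlgSpFormal.Yon
import Groth.Agent.Lib.AlgSpace.OpenSub

/-!
# Lifting maps into etale charts, etale locally on an affine thickening
-/

universe u

open CategoryTheory CategoryTheory.Limits AlgebraicGeometry Opposite AlgSp

namespace Groth.Agent.Lib.SmoothLift.EtaleLocal

variable {S : Scheme.{u}}

/-- `Spec (A ⧸ I)` over the base. -/
noncomputable abbrev quot {A : CommRingCat.{u}} (I : Ideal A) (str : Spec A ⟶ S) : Over S :=
  Over.mk (Spec.map (CommRingCat.ofHom (Ideal.Quotient.mk I)) ≫ str)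

/-- The closed immersion of `Spec (A ⧸ I)`. -/
noncomputable abbrev quotι {A : CommRingCat.{u}} (I : Ideal A) (str : Spec A ⟶ S) :
    quot I str ⟶ Over.mk str :=
  Over.homMk (Spec.map (CommRingCat.ofHom (Ideal.Quotient.mk I))) rfl

/-- The base change of `Spec (A ⧸ I)` along `A ⟶ B`. -/
noncomputable abbrev quotMap {A B : CommRingCat.{u}} (I : Ideal A) (φ : A ⟶ B) (str : Spec A ⟶ S) :
    quot (I.map φ.hom) (Spec.map φ ≫ str) ⟶ quot I str :=
  Over.homMk (Spec.map (CommRingCat.ofHom (Ideal.quotientMap (I.map φ.hom) φ.hom Ideal.le_comap_map))) (by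
    change _ ≫ _ ≫ str = _ ≫ Spec.map φ ≫ str
    rw [← Category.assoc, ← Category.assoc, (NilLift.isPullback_quotient φ I).w])

theorem isPullback_quotMap {A B : CommRingCat.{u}} (I : Ideal A) (φ : A ⟶ B) (str : Spec A ⟶ S) :
    IsPullback (quotMap I φ str) (quotι (I.map φ.hom) (Spec.map φ ≫ str)) (quotι I str)
      (Over.homMk (Spec.map φ) rfl : Over.mk (Spec.map φ ≫ str) ⟶ Over.mk str) :=
  IsPullback.of_map_of_faithful (Over.forget S) (NilLift.isPullback_quotient φ I)

/-- A map from a closed subscheme of an affine scheme into the target of a surjective etale map lifts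
to the source over an etale neighbourhood of any of its points. -/
theorem exists_chart_nbhd {F G : Sp S} {a : F ⟶ G} (ha : RepWith @Etale a)
    (ha' : RepWith @Surjective a) {A : CommRingCat.{u}} (I : Ideal A) (str : Spec A ⟶ S)
    (x : (yon S).obj (quot I str) ⟶ G) (t : ↥(quot I str).left) :
    ∃ (B : CommRingCat.{u}) (e : A ⟶ B) (_ : Etale (Spec.map e))
      (n : (yon S).obj (quot (I.map e.hom) (Spec.map e ≫ str)) ⟶ F)
      (u : ↥(quot (I.map e.hom) (Spec.map e ≫ str)).left),
      n ≫ a = (yon S).map (quotMap I e str) ≫ x ∧ (quotMap I e str).left u = t := by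
  have : Etale (ha.1.snd x).left := ha.2 _ _ _ (ha.1.isPullback x)
  have : Surjective (ha.1.snd x).left := ha'.2 _ _ _ (ha.1.isPullback x)
  obtain ⟨w, hw⟩ := (ha.1.snd x).left.surjective t
  obtain ⟨B, e, he, m, hm, u, hu⟩ := NilLift.exists_etale_nbhd I (ha.1.snd x).left w
  let m' : quot (I.map e.hom) (Spec.map e ≫ str) ⟶ ha.1.pullback x := Over.homMk m (by
    rw [← Over.w (ha.1.snd x), reassoc_of% hm]
    exact Over.w (quotMap I e str))
  have hm' : m' ≫ ha.1.snd x = quotMap I e str := by ext : 1; exact hm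
  refine ⟨B, e, he, (yon S).map m' ≫ ha.1.fst x, u, ?_, ?_⟩
  · rw [Category.assoc, ha.1.w, ← Functor.map_comp_assoc, hm']
  · rw [← hm', Over.comp_left, Scheme.Hom.comp_apply]
    change (ha.1.snd x).left (m u) = t
    rw [hu, hw]

theorem surjective_quotι {A : CommRingCat.{u}} (I : Ideal A) (hI : ∀ x ∈ I, IsNilpotent x)
    (str : Spec A ⟶ S) : Function.Surjective (quotι I str).left :=
  NilLift.surjective_specMap_mk I hI

theorem isNilpotent_of_mem_map {A B : CommRingCat.{u}} (φ : A ⟶ B) {I : Ideal A}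
    (hI : ∀ x ∈ I, IsNilpotent x) : ∀ x ∈ I.map φ.hom, IsNilpotent x := fun _ hx =>
  mem_nilradical.1 (Ideal.map_le_iff_le_comap.2
    (show I ≤ (nilradical B).comap φ.hom from fun y hy => (hI y hy).map φ.hom) hx)

end Groth.Agent.Lib.SmoothLift.EtaleLocal
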