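import Mathlib.AlgebraicGeometry.Limits
import Mathlib.RingTheory.RingHom.Smooth
import Mathlib.RingTheory.Smooth.Pi

/-!
# Formal smoothness of finite disjoint unions of affine schemes over an affine scheme
-/

universe u

open CategoryTheory CategoryTheory.Limits AlgebraicGeometry

namespace Groth.Agent.Lib.SmoothLift.Sigma

/-- A finite product of formally smooth algebras is formally smooth. -/
theorem formallySmooth_pi {ι : Type u} [Finite ι] {R : Type u} [CommRing R] {A : ι → Type u}
    [∀ i, CommRing (A i)] (φ : ∀ i, R →+* A i) (h : ∀ i, (φ i).FormallySmooth) :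
    (RingHom.pi φ).FormallySmooth := by
  letI : ∀ i, Algebra R (A i) := fun i => (φ i).toAlgebra
  have : ∀ i, _root_.Algebra.FormallySmooth R (A i) := h
  exact (RingHom.formallySmooth_algebraMap (R := R) (S := ∀ i, A i)).2
    ((_root_.Algebra.FormallySmooth.pi_iff A).2 this)

/-- A finite disjoint union of formally smooth affine schemes over an affine scheme. -/
theorem formallySmooth_appTop_sigmaDesc {ι : Type u} [Finite ι] {W : ι → Scheme.{u}}
    [∀ i, IsAffine (W i)] {T : Scheme.{u}} [IsAffine T] (v : ∀ i, W i ⟶ T)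
    (h : ∀ i, (v i).appTop.hom.FormallySmooth) :
    (Limits.Sigma.desc v).appTop.hom.FormallySmooth := by
  let R : ι → CommRingCat.{u} := fun i => Γ(W i, ⊤)
  let φ : Γ(T, ⊤) ⟶ CommRingCat.of (∀ i, R i) :=
    CommRingCat.ofHom (RingHom.pi fun i => (v i).appTop.hom)
  let e := Limits.Sigma.mapIso (fun i => (W i).isoSpec) ≪≫ asIso (sigmaSpec R)
  have he : Limits.Sigma.desc v = e.hom ≫ Spec.map φ ≫ T.isoSpec.inv := by
    refine Limits.Sigma.hom_ext _ _ fun i => ?_
    simp only [e, Iso.trans_hom, asIso_hom, Category.assoc, Limits.Sigma.ι_desc]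
    rw [show (Limits.Sigma.mapIso fun i => (W i).isoSpec).hom =
      Limits.Sigma.map fun i => (W i).isoSpec.hom from rfl, Limits.Sigma.ι_map_assoc, ι_sigmaSpec_assoc, ← Spec.map_comp_assoc,
      show φ ≫ CommRingCat.ofHom (Pi.evalRingHom _ i) = (v i).appTop from rfl,
      Scheme.isoSpec_inv_naturality, Iso.hom_inv_id_assoc]
  have hbij : ∀ {X Y : Scheme.{u}} (f : X ⟶ Y) [IsIso f], f.appTop.hom.FormallySmooth := by
    intro X Y f hf
    have : IsIso f.appTop := inferInstanceAs (IsIso (f.app ⊤))
    exact RingHom.FormallySmooth.of_bijective (ConcreteCategory.bijective_of_isIso f.appTop)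
  have hφ : (Spec.map φ).appTop.hom.FormallySmooth := by
    rw [show (Spec.map φ).appTop = (Scheme.ΓSpecIso _).hom ≫ φ ≫ (Scheme.ΓSpecIso _).inv by
      rw [← Scheme.ΓSpecIso_naturality_assoc, Iso.hom_inv_id, Category.comp_id]]
    rw [CommRingCat.hom_comp, CommRingCat.hom_comp]
    exact (RingHom.FormallySmooth.of_bijective
      (ConcreteCategory.bijective_of_isIso (Scheme.ΓSpecIso Γ(T, ⊤)).hom)).comp
      (formallySmooth_pi _ h) |>.comp (RingHom.FormallySmooth.of_bijective
      (ConcreteCategory.bijective_of_isIso (Scheme.ΓSpecIso (CommRingCat.of (∀ i, R i))).inv))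
  rw [he, Scheme.Hom.comp_appTop, Scheme.Hom.comp_appTop, CommRingCat.hom_comp,
    CommRingCat.hom_comp]
  exact ((hbij T.isoSpec.inv).comp hφ).comp (hbij e.hom)

end Groth.Agent.Lib.SmoothLift.Sigma
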