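import Groth.Agent.Lib.SmoothLift.Proj
import Groth.Agent.Lib.SmoothLift.Sigma

/-!
# Formally smooth spaces over affine schemes: lifting sections along square-zero thickenings
-/

universe u

open CategoryTheory CategoryTheory.Limits AlgebraicGeometry Opposite AlgSp
open Groth.Agent.Lib.AlgSpFormal

namespace Groth.Agent.Lib.SmoothLift.Lift

variable {S : Scheme.{u}}

/-- The atlas is covered by affine opens formally smooth over the affine base. -/
def AtlasFS {T' U₁ : Over S} (u₁ : U₁ ⟶ T') : Prop :=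
  ∀ x : U₁.left, ∃ O : U₁.left.Opens, IsAffineOpen O ∧ x ∈ O ∧
    (O.ι ≫ u₁.left).appTop.hom.FormallySmooth

set_option maxHeartbeats 1000000 in
/-- A section over the closed subscheme of a formally smooth space lifts. -/
theorem exists_section {T₀ T' : Over S} (j : T₀ ⟶ T') [IsClosedImmersion j.left]
    [Surjective j.left] [IsAffine T'.left] (hI : RingHom.ker j.left.appTop.hom ^ 2 = ⊥)
    {W : Sp S} (hW : IsAlgSpace W) {q : W ⟶ (yon S).obj T'} {U₁ : Over S}
    {p₁ : (yon S).obj U₁ ⟶ W} (hp₁ : RepWith @Etale p₁) (hp₁s : RepWith @Surjective p₁)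
    {u₁ : U₁ ⟶ T'} (hu₁ : (yon S).map u₁ = p₁ ≫ q) (hsm : AtlasFS u₁)
    (a : (yon S).obj T₀ ⟶ W) (ha : a ≫ q = (yon S).map j) :
    ∃ l : (yon S).obj T' ⟶ W, l ≫ q = 𝟙 _ ∧ (yon S).map j ≫ l = a := by
  obtain ⟨E, i, h, hEaff, HU⟩ := Nbhd.exists_affine_univ hI hW ha
  obtain ⟨e, he⟩ := (yon S).map_surjective (h ≫ q)
  have hie : i ≫ e = j := (yon S).map_injective (by rw [Functor.map_comp, he, reassoc_of% HU.2.1, ha])
  obtain ⟨ι, _, O, B, P, b, p, r, n, hO, hB, hb, hbs, sqj, hn⟩ :=
    Data.exists_chart_data_of_opens j hI p₁ hp₁ hp₁s a _ hsm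
  have : ∀ i, IsAffine (O i).toScheme := fun i => (hO i).1
  let U := AlgSpace.opensSigma O
  let k₁ : U ⟶ U₁ := AlgSpace.opensSigmaMap O
  have hU : IsAffine U.left := inferInstanceAs (IsAffine (∐ fun i => (O i).toScheme))
  have hk₁ : Etale k₁.left := AlgSpace.etale_opensSigmaMap O
  let c := (yon S).map k₁ ≫ p₁
  have hc : RepWith @Etale c := AlgSpace.repWith_yon_map_comp hk₁ hp₁
  have hn' : (yon S).map n ≫ c = (yon S).map p ≫ a := hn
  let u := k₁ ≫ u₁
  have hu : (yon S).map u = c ≫ q := by simp only [u, c, Functor.map_comp, hu₁, Category.assoc]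
  have hnu : n ≫ u = p ≫ j := (yon S).map_injective (by
    rw [Functor.map_comp, hu, reassoc_of% hn', ha, Functor.map_comp])
  have hfs : u.left.appTop.hom.FormallySmooth := by
    rw [show u.left = Limits.Sigma.desc fun i => (O i).ι ≫ u₁.left from
      Limits.Sigma.hom_ext _ _ fun i => (Limits.Sigma.ι_desc_assoc _ _ _).trans
        (Limits.Sigma.ι_desc (fun i => (O i).ι ≫ u₁.left) i).symm]
    exact Sigma.formallySmooth_appTop_sigmaDesc _ fun i => (hO i).2
  have : IsAffine T₀.left := isAffine_of_isAffineHom j.left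
  have hcl : IsClosedImmersion r.left :=
    MorphismProperty.of_isPullback (P := @IsClosedImmersion) (sqj.map (Over.forget S))
      (inferInstanceAs (IsClosedImmersion j.left))
  have : IsAffine P.left := isAffine_of_isAffineHom r.left
  have : Mono j := (Over.forget S).mono_of_mono_map (inferInstanceAs (Mono j.left))
  have hjF := Yon.isFOThickMor_yon_map j hI
  have hrF : IsFOThickMor ((yon S).map r) :=
    ThickBC.isFOThickMor_of_isPullback hjF (IsAlgSpace.yon_obj T') (AlgSpace.isPullback_yon sqj)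
  -- a lift over the etale cover
  have hrk := Yon.ker_appTop_sq_of_ker_mul_ker r.left (AffLocT.yon_map hB hrF.2)
  obtain ⟨lB, hl₁, hl₂⟩ : ∃ lB : B ⟶ U, lB ≫ u = b ∧ r ≫ lB = n := by
    algebraize [u.left.appTop.hom, b.left.appTop.hom, r.left.appTop.hom.comp b.left.appTop.hom]
    let gr : Γ(B.left, ⊤) →ₐ[Γ(T'.left, ⊤)] Γ(P.left, ⊤) :=
      { r.left.appTop.hom with commutes' := fun _ => rfl }
    let fn : Γ(U.left, ⊤) →ₐ[Γ(T'.left, ⊤)] Γ(P.left, ⊤) :=
      { n.left.appTop.hom with
        commutes' := fun x => congrArg (fun f => f.hom x) (show u.left.appTop ≫ n.left.appTop =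
          b.left.appTop ≫ r.left.appTop by
            rw [← Scheme.Hom.comp_appTop, ← Scheme.Hom.comp_appTop, ← Over.comp_left, ← Over.comp_left,
              hnu, sqj.w]) }
    have : _root_.Algebra.FormallySmooth Γ(T'.left, ⊤) Γ(U.left, ⊤) := hfs
    let L := _root_.Algebra.FormallySmooth.liftOfSurjective fn gr
      (r.left.app_surjective ⊤ (isAffineOpen_top _)) ⟨2, hrk⟩
    have hL : gr.comp L = fn :=
      _root_.Algebra.FormallySmooth.comp_liftOfSurjective fn gr _ _
    obtain ⟨m, hm⟩ := UnivThick.Affine.exists_hom_appTop (T := B.left) (Y := U.left)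
      (CommRingCat.ofHom L.toRingHom)
    have hmu : m ≫ u.left = b.left := ext_of_isAffine (by
      rw [Scheme.Hom.comp_appTop, hm]; ext x; exact L.commutes x)
    refine ⟨Over.homMk m (by rw [← Over.w u, reassoc_of% hmu, Over.w b]), by ext : 1; exact hmu, ?_⟩
    ext : 1
    refine ext_of_isAffine ?_
    rw [Over.comp_left, Scheme.Hom.comp_appTop]
    change m.appTop ≫ _ = _
    rw [hm]
    ext x
    exact AlgHom.congr_fun hL x
  obtain ⟨my, ⟨hm₁, hm₂⟩, -⟩ := HU.2.2 (IsAlgSpace.yon_obj P) (IsAlgSpace.yon_obj B) _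
    ((yon S).map p) ((yon S).map lB ≫ c) hrF (by rw [← Functor.map_comp_assoc, hl₂, hn'])
  obtain ⟨m, rfl⟩ := (yon S).map_surjective my
  have hme : m ≫ e = b := (yon S).map_injective (by
    rw [Functor.map_comp, he, reassoc_of% hm₂, ← hu, ← Functor.map_comp, hl₁])
  have hinj : Function.Injective e.left.appTop.hom := by
    rw [injective_iff_map_eq_zero]
    intro x hx
    refine ThickBC.eq_zero_of_flat_cover (ι := Unit) (fun _ => b.left) (fun _ => inferInstance)
      (fun t => ⟨(), hbs.surj t⟩) x fun _ => ?_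
    rw [← hme, Over.comp_left, Scheme.Hom.comp_appTop]
    change m.left.appTop.hom (e.left.appTop.hom x) = 0
    rw [hx, map_zero]
  -- reduction to the closed subscheme
  let sW := IsPullback.of_hasPullback q ((yon S).map j)
  let a₀ : (yon S).obj T₀ ⟶ pullback q ((yon S).map j) :=
    pullback.lift a (𝟙 _) (by simp [ha])
  have ha₀ : a₀ ≫ pullback.snd q ((yon S).map j) = 𝟙 _ := pullback.lift_snd _ _ _
  have sqa : IsPullback (𝟙 ((yon S).obj T₀)) a₀ a (pullback.fst q ((yon S).map j)) := by
    refine IsPullback.of_bot (v₂₁ := pullback.snd _ _) (v₂₂ := q) ?_ ?_ sW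
    · rw [ha₀, ha]
      exact IsKernelPair.id_of_mono ((yon S).map j)
    · exact (Category.id_comp a).trans (pullback.lift_fst _ _ _).symm
  let E₀ := pullback e j
  have sqE := IsPullback.of_hasPullback e j
  let pX : (yon S).obj E₀ ⟶ pullback q ((yon S).map j) :=
    pullback.lift ((yon S).map (pullback.fst e j) ≫ h) ((yon S).map (pullback.snd e j)) (by
      rw [Category.assoc, ← he, (AlgSpace.isPullback_yon sqE).w])
  have hpX : pX ≫ pullback.snd q ((yon S).map j) = (yon S).map (pullback.snd e j) :=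
    pullback.lift_snd _ _ _
  have sqh : IsPullback ((yon S).map (pullback.fst e j)) pX h (pullback.fst q ((yon S).map j)) := by
    refine IsPullback.of_bot (v₂₁ := pullback.snd _ _) (v₂₂ := q) ?_ ?_ sW
    · rw [hpX, ← he]
      exact AlgSpace.isPullback_yon sqE
    · exact (pullback.lift_fst _ _ _).symm
  let i₀ : T₀ ⟶ E₀ := pullback.lift i (𝟙 T₀) (by simp [hie])
  have hi₁ : i₀ ≫ pullback.fst e j = i := pullback.lift_fst _ _ _
  have hi₂ : i₀ ≫ pullback.snd e j = 𝟙 T₀ := pullback.lift_snd _ _ _
  have H₀ : IsUnivFOThick a₀ ((yon S).map i₀) pX := by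
    refine Univ.univ_baseChange sqa.flip (IsAlgSpace.yon_obj E) HU sqh.flip (pullback.hom_ext ?_ ?_) ?_
    · rw [Category.assoc, pullback.lift_fst, pullback.lift_fst, ← Functor.map_comp_assoc, hi₁, HU.2.1]
    · rw [Category.assoc, pullback.lift_snd, pullback.lift_snd, ← Functor.map_comp, hi₂,
        CategoryTheory.Functor.map_id]
    · rw [Category.id_comp, ← Functor.map_comp, hi₁]
  have sqU := IsPullback.of_hasPullback u j
  let c₀ : (yon S).obj (pullback u j) ⟶ pullback q ((yon S).map j) :=
    pullback.lift ((yon S).map (pullback.fst u j) ≫ c) ((yon S).map (pullback.snd u j)) (by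
      rw [Category.assoc, ← hu, (AlgSpace.isPullback_yon sqU).w])
  have hc₀ : c₀ ≫ pullback.snd q ((yon S).map j) = (yon S).map (pullback.snd u j) :=
    pullback.lift_snd _ _ _
  have sqc : IsPullback ((yon S).map (pullback.fst u j)) c₀ c (pullback.fst q ((yon S).map j)) := by
    refine IsPullback.of_bot (v₂₁ := pullback.snd _ _) (v₂₂ := q) ?_ ?_ sW
    · rw [hc₀, ← hu]
      exact AlgSpace.isPullback_yon sqU
    · exact (pullback.lift_fst _ _ _).symm
  have hn₀ : (yon S).map (pullback.lift n p hnu) ≫ c₀ = (yon S).map p ≫ a₀ := by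
    refine pullback.hom_ext ?_ ?_
    · simp only [c₀, a₀, Category.assoc, pullback.lift_fst]
      rw [← Functor.map_comp_assoc, pullback.lift_fst, hn']
    · rw [Category.assoc, Category.assoc, hc₀, ha₀, Category.comp_id, ← Functor.map_comp,
        pullback.lift_snd]
  have : IsAffine E₀.left := .of_isPullback (sqE.map (Over.forget S))
    (X := E.left) (f := e.left) (g := j.left)
  have : IsAffine (pullback u j).left := .of_isPullback (sqU.map (Over.forget S))
    (X := U.left) (f := u.left) (g := j.left)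
  have : IsAffine ((Over.forget S).obj U) := hU
  have : IsAffine ((Over.forget S).obj E) := hEaff
  have : IsAffine ((Over.forget S).obj T₀) := ‹IsAffine T₀.left›
  have : IsAffine ((Over.forget S).obj T') := ‹IsAffine T'.left›
  have hfs₀ : (pullback.snd u j).left.appTop.hom.FormallySmooth := by
    have : (RingHom.toMorphismProperty RingHom.FormallySmooth).IsStableUnderCobaseChange :=
      RingHom.isStableUnderCobaseChange_toMorphismProperty_iff.2
        RingHom.FormallySmooth.isStableUnderBaseChange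
    exact MorphismProperty.of_isPushout (P := RingHom.toMorphismProperty RingHom.FormallySmooth)
      (isPushout_appTop_of_isPullback (sqU.map (Over.forget S))).flip hfs
  have hpe : Etale p.left :=
    MorphismProperty.of_isPullback (P := @Etale) (sqj.map (Over.forget S)).flip hb
  have hps : Surjective p.left :=
    MorphismProperty.of_isPullback (P := @Surjective) (sqj.map (Over.forget S)).flip hbs
  obtain ⟨π₀, hπ₀, hproj⟩ := Proj.projective_conormal H₀ (pullback.snd e j) hpX.symm hi₂ p
    (AlgSpace.repWith_baseChange sqc hc) (pullback.lift n p hnu) hn₀ (pullback.snd u j) hc₀.symm hfs₀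
  -- the retraction
  algebraize [j.left.appTop.hom, e.left.appTop.hom, (pullback.snd e j).left.appTop.hom,
    (pullback.snd e j).left.appTop.hom.comp j.left.appTop.hom]
  let red : Γ(E.left, ⊤) →ₐ[Γ(T'.left, ⊤)] Γ(E₀.left, ⊤) :=
    { (pullback.fst e j).left.appTop.hom with
      commutes' := fun x => congrArg (fun f => f.hom x) (show e.left.appTop ≫
        (pullback.fst e j).left.appTop = j.left.appTop ≫ (pullback.snd e j).left.appTop by
          rw [← Scheme.Hom.comp_appTop, ← Scheme.Hom.comp_appTop, ← Over.comp_left, ← Over.comp_left,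
            pullback.condition]) }
  let π : Γ(E.left, ⊤) →ₐ[Γ(T'.left, ⊤)] Γ(T₀.left, ⊤) :=
    { i.left.appTop.hom with
      commutes' := fun x => congrArg (fun f => f.hom x) (show e.left.appTop ≫ i.left.appTop =
        j.left.appTop by rw [← Scheme.Hom.comp_appTop, ← Over.comp_left, hie]) }
  have hicl : IsClosedImmersion i.left := ((isThickMor_yon_map_iff i).1 HU.1.1).1
  have hecl : IsClosedImmersion (pullback.fst e j).left :=
    MorphismProperty.of_isPullback (P := @IsClosedImmersion) (sqE.map (Over.forget S)).flip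
      (inferInstanceAs (IsClosedImmersion j.left))
  have : IsClosedImmersion ((Over.forget S).map j) := ‹IsClosedImmersion j.left›
  obtain ⟨ρ, hρ⟩ := Algebra.exists_retraction (A := Γ(T'.left, ⊤))
    (j.left.app_surjective ⊤ (isAffineOpen_top _)) hinj π
    (Yon.ker_appTop_sq_of_ker_mul_ker i.left (AffLocT.yon_map hEaff HU.1.2)) red
    ((pullback.fst e j).left.app_surjective ⊤ (isAffineOpen_top _))
    (le_of_eq (ThickBC.ker_appTop_eq_map (sqE.map (Over.forget S)).flip)) π₀
    (fun x => by
      change π₀.toRingHom _ = _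
      rw [hπ₀]
      exact congrArg (fun f => f.hom x) (show (pullback.fst e j).left.appTop ≫ i₀.left.appTop =
        i.left.appTop by rw [← Scheme.Hom.comp_appTop, ← Over.comp_left, hi₁]))
    hproj
  obtain ⟨σ, hσ⟩ := UnivThick.Affine.exists_hom_appTop (T := T'.left) (Y := E.left)
    (CommRingCat.ofHom ρ.toRingHom)
  have hσe : σ ≫ e.left = 𝟙 _ := ext_of_isAffine (by
    rw [Scheme.Hom.comp_appTop, hσ]
    ext x
    exact (ρ.commutes x).trans (congrArg (fun f => f.hom x) (by simp : (𝟙 _ : _ ⟶ Γ(T'.left, ⊤)) =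
      (𝟙 T'.left : T'.left ⟶ T'.left).appTop)))
  let s : T' ⟶ E := Over.homMk σ (by rw [← Over.w e, reassoc_of% hσe])
  have hse : s ≫ e = 𝟙 T' := by ext : 1; exact hσe
  have hjs : j ≫ s = i := by
    ext : 1
    refine ext_of_isAffine ?_
    rw [Over.comp_left, Scheme.Hom.comp_appTop]
    change σ.appTop ≫ _ = _
    rw [hσ]
    ext x
    exact hρ x
  refine ⟨(yon S).map s ≫ h, ?_, ?_⟩
  · rw [Category.assoc, ← he, ← Functor.map_comp, hse, CategoryTheory.Functor.map_id]
  · rw [← Functor.map_comp_assoc, hjs, HU.2.1]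

end Groth.Agent.Lib.SmoothLift.Lift
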