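import Groth.Agent.Lib.SmoothLift.Data
import Groth.Agent.Lib.SmoothLift.Conv
import Groth.Agent.Lib.SmoothLift.Algebra
import Groth.Agent.Lib.AlgSpMor.AffineDescent
import Groth.Agent.Lib.Lim.Thickening

/-!
# The first order neighbourhood of a section over an affine scheme
-/

universe u

open CategoryTheory CategoryTheory.Limits AlgebraicGeometry Opposite AlgSp
open Groth.Agent.Lib.AlgSpFormal

namespace Groth.Agent.Lib.SmoothLift.Nbhd

variable {S : Scheme.{u}}

theorem formallyUnramified_of_mono {F G : Sp S} (f : F ⟶ G) [Mono f] : IsFormallyUnramifiedMor f :=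
  fun _ _ _ _ h₂ _ h₂' => (cancel_mono f).1 (h₂.trans h₂'.symm)

/-- Universal thickenings transport along isomorphisms. -/
theorem univ_of_iso {Z Z' Z'' X : Sp S} {h : Z ⟶ X} {i : Z ⟶ Z'} {h' : Z' ⟶ X}
    (hZ' : IsAlgSpace Z') (HU : IsUnivFOThick h i h') (φ : Z'' ⟶ Z') [IsIso φ] :
    IsUnivFOThick h (i ≫ inv φ) (φ ≫ h') := by
  refine ⟨ThickBC.isFOThickMor_of_isPullback HU.1 hZ' (p := 𝟙 Z) (q := φ) (IsPullback.of_horiz_isIso
    ⟨by simp⟩), by simp [HU.2.1], fun T T' hT hT' j a b hj hab => ?_⟩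
  obtain ⟨l, ⟨hl₁, hl₂⟩, hlu⟩ := HU.2.2 hT hT' j a b hj hab
  refine ⟨l ≫ inv φ, ⟨by rw [reassoc_of% hl₁], by simp [hl₂]⟩, fun m hm => ?_⟩
  rw [IsIso.eq_comp_inv]
  exact hlu _ ⟨by rw [reassoc_of% hm.1]; simp, by rw [Category.assoc]; exact hm.2⟩

variable {T₀ T' : Over S} {j : T₀ ⟶ T'} {W : Sp S} {q : W ⟶ (yon S).obj T'}
  {a : (yon S).obj T₀ ⟶ W}

/-- The first order neighbourhood of a lift is an affine scheme. -/
theorem exists_affine_univ [IsClosedImmersion j.left] [Surjective j.left] [IsAffine T'.left]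
    (hI : RingHom.ker j.left.appTop.hom ^ 2 = ⊥) (hW : IsAlgSpace W)
    (ha : a ≫ q = (yon S).map j) :
    ∃ (E : Over S) (i : T₀ ⟶ E) (h : (yon S).obj E ⟶ W),
      IsAffine E.left ∧ IsUnivFOThick a ((yon S).map i) h := by
  have : MorphismProperty.ContainsIdentities (@Etale : MorphismProperty Scheme.{u}) :=
    ⟨fun X => inferInstanceAs (Etale (𝟙 X))⟩
  have aT' := IsAlgSpace.yon_obj T'
  have : Mono j := (Over.forget S).mono_of_mono_map (inferInstanceAs (Mono j.left))
  have : Mono a := mono_of_mono_fac ha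
  obtain ⟨Z', iZ, h', hZ', HU⟩ := UnivThick.Exists.exists_univ (IsAlgSpace.yon_obj T₀) hW a
    (formallyUnramified_of_mono a)
  obtain ⟨U₁, p₁, hp₁, hp₁s⟩ := hW.atlas
  obtain ⟨B, U, P, b, p, r, k₁, n, hB, hU, hb, hbs, sqj, hk₁, hn⟩ :=
    Data.exists_chart_data j hI p₁ hp₁ hp₁s a
  let c := (yon S).map k₁ ≫ p₁
  have hc : RepWith @Etale c := AlgSpace.repWith_yon_map_comp hk₁ hp₁
  have sqjy := AlgSpace.isPullback_yon sqj
  have hcl : IsClosedImmersion r.left :=
    MorphismProperty.of_isPullback (P := @IsClosedImmersion) (sqj.map (Over.forget S))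
      (inferInstanceAs (IsClosedImmersion j.left))
  have : IsAffine P.left := isAffine_of_isAffineHom r.left
  have hp : Etale p.left :=
    MorphismProperty.of_isPullback (P := @Etale) (sqj.map (Over.forget S)).flip hb
  -- the base change of the thickening
  let sq := IsPullback.of_hasPullback (h' ≫ q) ((yon S).map b)
  let e' := pullback.fst (h' ≫ q) ((yon S).map b)
  let iB : (yon S).obj P ⟶ pullback (h' ≫ q) ((yon S).map b) :=
    pullback.lift ((yon S).map p ≫ iZ) ((yon S).map r) (by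
      rw [Category.assoc, reassoc_of% HU.2.1, ha, sqjy.w])
  have he' : RepWith @Etale e' :=
    AlgSpace.repWith_baseChange sq.flip (AlgSpace.repWith_etale_yon_map hb)
  have sqP : IsPullback ((yon S).map p) iB iZ e' := by
    refine IsPullback.of_bot (v₂₁ := pullback.snd _ _) (v₂₂ := h' ≫ q) ?_ ?_ sq
    · rw [show iB ≫ pullback.snd (h' ≫ q) ((yon S).map b) = (yon S).map r from pullback.lift_snd _ _ _,
        reassoc_of% HU.2.1, ha]
      exact sqjy
    · exact (pullback.lift_fst _ _ _).symm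
  have HE := Univ.univ_of_etale HU (fun _ _ hφ => AlgSpace.repWith_comp hφ he')
    (Yon.isFormallyEtaleMor_of_etale he') sqP
  -- the thickening of the chart
  have w : 𝟙 ((yon S).obj P) ≫ ((yon S).map p ≫ a) = (yon S).map n ≫ c := by
    rw [Category.id_comp, hn]
  have : FormallyUnramified n.left := Charts.formallyUnramified_chart (repWith_id _ _) hc w
    (Descend.formallyUnramified_comp (Yon.formallyUnramified_of_formallyEtale
      (Yon.isFormallyEtaleMor_of_etale (AlgSpace.repWith_etale_yon_map hp)))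
      (formallyUnramified_of_mono a))
  obtain ⟨P', iP, hP', HP⟩ := UnivThick.Exists.univ_of_chart hW ((yon S).map p ≫ a) hc w
  rw [Category.id_comp] at HP
  have : IsClosedImmersion iP.left := ((isThickMor_yon_map_iff iP).1 HP.1.1).1
  have : Surjective iP.left := ((isThickMor_yon_map_iff iP).1 HP.1.1).2
  have : IsAffine P'.left := Lim.Thickening.isAffine_of_surjective iP.left
  obtain ⟨δ, hδ, -, -⟩ := UnivEtale.univ_iso (IsAlgSpace.yon_obj P) (IsAlgSpace.yon_obj P')
    (AlgSpace.isAlgSpace_of_isPullback sq aT'.diag hZ' (IsAlgSpace.yon_obj B)) HP HE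
  obtain ⟨k, hk⟩ := (yon S).map_surjective (δ ≫ pullback.snd (h' ≫ q) ((yon S).map b))
  have sqC : IsPullback (δ ≫ e') ((yon S).map k) (h' ≫ q) ((yon S).map b) := by
    rw [hk]
    exact sq.of_iso (asIso δ).symm (Iso.refl _) (Iso.refl _) (Iso.refl _) (by simp [e'])
      (by simp) (by simp) (by simp)
  have := hB
  have := AlgSpMor.AffineDescent.isLocalAtTarget_isAffineHom.{u}
  have hrep : RepWith @IsAffineHom (h' ≫ q) := AlgSpMor.RepDescent.repWith_of_cover _
    AlgSpMor.RepDescent.effective_isAffineHom aT'.diag (AlgSpace.repWith_etale_yon_map hb)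
    (AlgSpace.repWith_surjective_yon_map hbs) sqC
    ((AlgSp.repWith_yon_map_iff _ k).2 (isAffineHom_of_isAffine k.left))
  obtain ⟨E, g, fst, sqV, hg⟩ := AlgSpace.repWith_exists hrep (𝟙 ((yon S).obj T'))
  have : IsIso fst := sqV.isIso_fst_of_isIso
  obtain ⟨i, hi⟩ := (yon S).map_surjective (iZ ≫ inv fst)
  refine ⟨E, i, fst ≫ h', ?_, ?_⟩
  · have : IsAffineHom g.left := hg
    exact isAffine_of_isAffineHom g.left
  · rw [hi]; exact univ_of_iso hZ' HU fst

end Groth.Agent.Lib.SmoothLift.Nbhd
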