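import Groth.Agent.Lib.SmoothLift.Nbhd
import Mathlib.RingTheory.RingHom.Smooth

/-!
# Projectivity of the conormal module of a section of a formally smooth space
-/

universe u

open CategoryTheory CategoryTheory.Limits AlgebraicGeometry Opposite AlgSp TensorProduct
open Groth.Agent.Lib.AlgSpFormal

namespace Groth.Agent.Lib.SmoothLift.Proj

variable {S : Scheme.{u}}

theorem appTop_congr {X Y : Over S} {f g : X ⟶ Y} (h : f = g) : f.left.appTop = g.left.appTop := by
  rw [h]

set_option maxHeartbeats 1000000 in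
/-- The conormal module of a section is projective. -/
theorem projective_conormal {T : Over S} [IsAffine T.left] {W : Sp S}
    {q : W ⟶ (yon S).obj T} {a : (yon S).obj T ⟶ W}
    {E : Over S} [IsAffine E.left] {i : T ⟶ E} {h : (yon S).obj E ⟶ W}
    (HU : IsUnivFOThick a ((yon S).map i) h) (e : E ⟶ T) (hE : (yon S).map e = h ≫ q) (he : i ≫ e = 𝟙 T)
    {B U : Over S} [IsAffine B.left] [IsAffine U.left] (b : B ⟶ T) [Etale b.left] [Surjective b.left]
    {c : (yon S).obj U ⟶ W} (hc : RepWith @Etale c) (n : B ⟶ U)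
    (hn : (yon S).map n ≫ c = (yon S).map b ≫ a) (u : U ⟶ T) (hu : (yon S).map u = c ≫ q)
    (hfs : u.left.appTop.hom.FormallySmooth) :
    letI := e.left.appTop.hom.toAlgebra
    ∃ π : Γ(E.left, ⊤) →ₐ[Γ(T.left, ⊤)] Γ(T.left, ⊤), π.toRingHom = i.left.appTop.hom ∧
      Module.Projective Γ(T.left, ⊤) (LinearMap.ker π.toLinearMap) := by
  letI := e.left.appTop.hom.toAlgebra
  have ha : a ≫ q = 𝟙 _ := by
    rw [← HU.2.1, Category.assoc, ← hE, ← Functor.map_comp, he, CategoryTheory.Functor.map_id]
  have hnu : n ≫ u = b := (yon S).map_injective (by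
    rw [Functor.map_comp, hu, reassoc_of% hn, ha, Category.comp_id])
  let πA : Γ(E.left, ⊤) →ₐ[Γ(T.left, ⊤)] Γ(T.left, ⊤) :=
    { i.left.appTop.hom with
      commutes' := fun x => congrArg (fun f => f.hom x)
        (show e.left.appTop ≫ i.left.appTop = 𝟙 _ by
          rw [← Scheme.Hom.comp_appTop, ← Over.comp_left, he]; simp) }
  refine ⟨πA, rfl, ?_⟩
  -- base change to the chart
  let sW := IsPullback.of_hasPullback q ((yon S).map b)
  let aB : (yon S).obj B ⟶ pullback q ((yon S).map b) :=
    pullback.lift ((yon S).map b ≫ a) (𝟙 _) (by simp [ha])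
  have haB₂ : aB ≫ pullback.snd q ((yon S).map b) = 𝟙 _ := pullback.lift_snd _ _ _
  have sqa : IsPullback ((yon S).map b) aB a (pullback.fst q ((yon S).map b)) := by
    refine IsPullback.of_bot (v₂₁ := pullback.snd _ _) (v₂₂ := q) ?_ ?_ sW
    · rw [haB₂, ha]
      exact IsPullback.of_vert_isIso ⟨by simp⟩
    · exact (pullback.lift_fst _ _ _).symm
  let EB := pullback e b
  let eE : EB ⟶ E := pullback.fst e b
  let rE : EB ⟶ B := pullback.snd e b
  have sqE := IsPullback.of_hasPullback e b
  let pX : (yon S).obj EB ⟶ pullback q ((yon S).map b) :=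
    pullback.lift ((yon S).map eE ≫ h) ((yon S).map rE) (by
      rw [Category.assoc, ← hE, (AlgSpace.isPullback_yon sqE).w])
  have sqh : IsPullback ((yon S).map eE) pX h (pullback.fst q ((yon S).map b)) := by
    refine IsPullback.of_bot (v₂₁ := pullback.snd _ _) (v₂₂ := q) ?_ ?_ sW
    · rw [show pX ≫ pullback.snd q ((yon S).map b) = (yon S).map rE from pullback.lift_snd _ _ _, ← hE]
      exact AlgSpace.isPullback_yon sqE
    · exact (pullback.lift_fst _ _ _).symm
  let iB : B ⟶ EB := pullback.lift (b ≫ i) (𝟙 B) (by simp [he])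
  have hiB₁ : iB ≫ eE = b ≫ i := pullback.lift_fst _ _ _
  have hiB₂ : iB ≫ rE = 𝟙 B := pullback.lift_snd _ _ _
  have HB : IsUnivFOThick aB ((yon S).map iB) pX := by
    refine Univ.univ_baseChange sqa.flip (IsAlgSpace.yon_obj E) HU sqh.flip (pullback.hom_ext ?_ ?_) ?_
    · rw [Category.assoc, pullback.lift_fst, pullback.lift_fst, ← Functor.map_comp_assoc, hiB₁,
        Functor.map_comp_assoc, HU.2.1]
    · rw [Category.assoc, pullback.lift_snd, pullback.lift_snd, ← Functor.map_comp, hiB₂,
        CategoryTheory.Functor.map_id]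
    · rw [← Functor.map_comp, hiB₁, Functor.map_comp]
  let UB := pullback u b
  let fU : UB ⟶ U := pullback.fst u b
  let rU : UB ⟶ B := pullback.snd u b
  have sqU := IsPullback.of_hasPullback u b
  let cB : (yon S).obj UB ⟶ pullback q ((yon S).map b) :=
    pullback.lift ((yon S).map fU ≫ c) ((yon S).map rU) (by
      rw [Category.assoc, ← hu, (AlgSpace.isPullback_yon sqU).w])
  have sqc : IsPullback ((yon S).map fU) cB c (pullback.fst q ((yon S).map b)) := by
    refine IsPullback.of_bot (v₂₁ := pullback.snd _ _) (v₂₂ := q) ?_ ?_ sW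
    · rw [show cB ≫ pullback.snd q ((yon S).map b) = (yon S).map rU from pullback.lift_snd _ _ _, ← hu]
      exact AlgSpace.isPullback_yon sqU
    · exact (pullback.lift_fst _ _ _).symm
  have hcB : RepWith @Etale cB := AlgSpace.repWith_baseChange sqc hc
  let nB : B ⟶ UB := pullback.lift n (𝟙 B) (by simp [hnu])
  have hnB₁ : nB ≫ fU = n := pullback.lift_fst _ _ _
  have hnB₂ : nB ≫ rU = 𝟙 B := pullback.lift_snd _ _ _
  have hnc : (yon S).map nB ≫ cB = aB := by
    refine pullback.hom_ext ?_ ?_
    · rw [Category.assoc, pullback.lift_fst, pullback.lift_fst, ← Functor.map_comp_assoc, hnB₁, hn]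
    · rw [Category.assoc, pullback.lift_snd, pullback.lift_snd, ← Functor.map_comp, hnB₂,
        CategoryTheory.Functor.map_id]
  rw [← hnc] at HB
  obtain ⟨hy, hhy, HB'⟩ := UnivEtale.univ_cancel (Yon.isFormallyEtaleMor_of_etale hcB)
    (IsAlgSpace.yon_obj EB) HB
  obtain ⟨gB, rfl⟩ := (yon S).map_surjective hy
  have hgB : gB ≫ rU = rE := (yon S).map_injective (by
    rw [Functor.map_comp, show (yon S).map rU = cB ≫ pullback.snd q ((yon S).map b) from
      (pullback.lift_snd _ _ _).symm, reassoc_of% hhy]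
    exact pullback.lift_snd _ _ _)
  have hiBg : iB ≫ gB = nB := (yon S).map_injective (((yon S).map_comp _ _).trans HB'.2.1)
  have : IsAffine EB.left := .of_isPullback (sqE.map (Over.forget S))
    (X := E.left) (f := e.left) (g := b.left)
  have : IsAffine UB.left := .of_isPullback (sqU.map (Over.forget S))
    (X := U.left) (f := u.left) (g := b.left)
  have : IsAffine ((Over.forget S).obj U) := ‹IsAffine U.left›
  have : IsAffine ((Over.forget S).obj E) := ‹IsAffine E.left›
  have : IsAffine ((Over.forget S).obj B) := ‹IsAffine B.left›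
  have : IsAffine ((Over.forget S).obj T) := ‹IsAffine T.left›
  have poE := isPushout_appTop_of_isPullback (sqE.map (Over.forget S))
  have poU := isPushout_appTop_of_isPullback (sqU.map (Over.forget S))
  have hfsB : rU.left.appTop.hom.FormallySmooth := by
    have : (RingHom.toMorphismProperty RingHom.FormallySmooth).IsStableUnderCobaseChange :=
      RingHom.isStableUnderCobaseChange_toMorphismProperty_iff.2
        RingHom.FormallySmooth.isStableUnderBaseChange
    exact MorphismProperty.of_isPushout (P := RingHom.toMorphismProperty RingHom.FormallySmooth)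
      poU.flip hfs
  algebraize [b.left.appTop.hom, rU.left.appTop.hom, gB.left.appTop.hom, nB.left.appTop.hom,
    rE.left.appTop.hom, eE.left.appTop.hom]
  have : IsScalarTower Γ(B.left, ⊤) Γ(UB.left, ⊤) Γ(EB.left, ⊤) := .of_algebraMap_eq fun x =>
    congrArg (fun f => f.hom x) ((appTop_congr hgB).symm.trans (by rw [Over.comp_left, Scheme.Hom.comp_appTop]))
  have : IsScalarTower Γ(B.left, ⊤) Γ(UB.left, ⊤) Γ(B.left, ⊤) := .of_algebraMap_eq fun x =>
    (congrArg (fun f => f.hom x) (show rU.left.appTop ≫ nB.left.appTop = 𝟙 _ by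
      rw [← Scheme.Hom.comp_appTop, ← Over.comp_left, hnB₂]; simp)).symm
  let πB : Γ(EB.left, ⊤) →ₐ[Γ(UB.left, ⊤)] Γ(B.left, ⊤) :=
    { iB.left.appTop.hom with
      commutes' := fun x => congrArg (fun f => f.hom x)
        (show gB.left.appTop ≫ iB.left.appTop = nB.left.appTop by
          rw [← Scheme.Hom.comp_appTop, ← Over.comp_left, hiBg]) }
  have hring := Conv.ring_univ nB iB gB HB' (R := Γ(UB.left, ⊤)) (B := Γ(B.left, ⊤))
    (E := Γ(EB.left, ⊤)) (Iso.refl _) (Iso.refl _) (Iso.refl _) πB rfl rfl rfl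
  have hP := Algebra.projective_ker_of_univ πB hring
  -- transport to the base change of the ring
  algebraize [eE.left.appTop.hom.comp e.left.appTop.hom]
  have : IsScalarTower Γ(T.left, ⊤) Γ(B.left, ⊤) Γ(EB.left, ⊤) := .of_algebraMap_eq fun x =>
    congrArg (fun f => f.hom x) poE.w
  have hPO : _root_.Algebra.IsPushout Γ(T.left, ⊤) Γ(B.left, ⊤) Γ(E.left, ⊤) Γ(EB.left, ⊤) :=
    CommRingCat.isPushout_iff_isPushout.1 poE.flip
  let eqv := _root_.Algebra.IsPushout.equiv Γ(T.left, ⊤) Γ(B.left, ⊤) Γ(E.left, ⊤) Γ(EB.left, ⊤)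
  let π' : Γ(B.left, ⊤) ⊗[Γ(T.left, ⊤)] Γ(E.left, ⊤) →ₐ[Γ(B.left, ⊤)] Γ(B.left, ⊤) :=
    (πB.restrictScalars Γ(B.left, ⊤)).comp eqv.toAlgHom
  have hff : b.left.appTop.hom.FaithfullyFlat :=
    (Flat.flat_and_surjective_iff_faithfullyFlat_of_isAffine (f := b.left)).1 ⟨inferInstance, inferInstance⟩
  have : Module.FaithfullyFlat Γ(T.left, ⊤) Γ(B.left, ⊤) :=
    RingHom.faithfullyFlat_algebraMap_iff.1 hff
  refine Algebra.projective_ker_of_baseChange πA π' (fun x => ?_) ?_
  · change πB (eqv (1 ⊗ₜ x)) = _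
    rw [_root_.Algebra.IsPushout.equiv_tmul, map_one, one_mul]
    exact congrArg (fun f => f.hom x) (show eE.left.appTop ≫ iB.left.appTop =
      i.left.appTop ≫ b.left.appTop by
        rw [← Scheme.Hom.comp_appTop, ← Scheme.Hom.comp_appTop, ← Over.comp_left, ← Over.comp_left, hiB₁])
  · let l : ↥(LinearMap.ker (πB.restrictScalars Γ(B.left, ⊤)).toLinearMap) ≃ₗ[Γ(B.left, ⊤)]
        ↥(LinearMap.ker π'.toLinearMap) :=
      { toFun := fun z => ⟨eqv.symm z.1, by
          change πB (eqv (eqv.symm z.1)) = 0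
          rw [eqv.apply_symm_apply]; exact z.2⟩
        invFun := fun z => ⟨eqv z.1, z.2⟩
        map_add' := fun x y => Subtype.ext (map_add _ _ _)
        map_smul' := fun c x => Subtype.ext (map_smul eqv.symm c x.1)
        left_inv := fun z => Subtype.ext (eqv.apply_symm_apply _)
        right_inv := fun z => Subtype.ext (eqv.symm_apply_apply _) }
    exact Module.Projective.of_equiv l

end Groth.Agent.Lib.SmoothLift.Proj
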